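/-
Janko-four type: the map of `C_H(P) E` onto M22, for the pentad 2-local subgroup.
-/
import Cfsg.Agent.J4Local.Lift
import Cfsg.Agent.J4Local.M22Facts

set_option autoImplicit false
set_option linter.style.haveILetI false
set_option linter.unusedSectionVars false

namespace CfsgLib.J4Pentad

open Subgroup CfsgLib.J4Local CfsgLib.J4Local.M22Elem

variable {G : Type*} [Group G] {z : G} {P : Subgroup G}

/-- `C_H(P) E`. -/
abbrev cCE (z : G) (P : Subgroup G) : Subgroup G := cC z P ⊔ cE z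

theorem cC_le_normalizer_E [Finite G] : cC z P ≤ normalizer (cE z : Set G) := inf_le_left.trans H_le_normalizer_E

theorem mem_cCE [Finite G] {x : G} : x ∈ cCE z P ↔ ∃ a ∈ cC z P, ∃ e ∈ cE z, a * e = x :=
  CfsgLib.Solvable.mem_sup_of_le_normalizer cC_le_normalizer_E

theorem cCE_le_H [Finite G] : cCE z P ≤ cH z := sup_le inf_le_left E_le_H

theorem eq_one_of_coprime {X : Type*} [Group X] {x : X} {m n : ℕ} (hm : x ^ m = 1) (hn : x ^ n = 1)
    (hc : Nat.Coprime m n) : x = 1 := by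
  have h := pow_gcd_eq_one.2 ⟨hm, hn⟩
  rwa [hc.gcd_eq_one, pow_one] at h

variable [Finite G] (hJ : Cfsg.IsOfJankoFourTypeWith z P)

include hJ

/-- An element of M22 centralising an element of order five, of order prime to five, is trivial. -/
theorem eq_one_of_comm_five {x s : M} (hs : orderOf s = 5) (h : x * s = s * x) {n : ℕ} (hx : x ^ n = 1)
    (hn : Nat.Coprime n 5) : x = 1 := by
  have hm : x ∈ Subgroup.zpowers s := by
    rw [← CfsgLib.J4M22.centralizer_eq_zpowers (Or.inl hs)]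
    exact Subgroup.mem_centralizer_singleton_iff.2 h
  obtain ⟨i, rfl⟩ := hm
  refine eq_one_of_coprime hx ?_ hn
  show (s ^ i) ^ 5 = 1
  rw [← zpow_natCast, ← zpow_mul, mul_comm, zpow_mul, zpow_natCast, ← hs, pow_orderOf_eq_one, one_zpow]

theorem decomp_unique {a a' e e' : G} (ha : a ∈ cC z P) (ha' : a' ∈ cC z P) (he : e ∈ cE z) (he' : e' ∈ cE z)
    (h : a * e = a' * e') : quo hJ ⟨a, ha⟩ = quo hJ ⟨a', ha'⟩ := by
  rw [quo_eq_iff]
  have h1 : a⁻¹ * a' = e * e'⁻¹ := by rw [inv_mul_eq_iff_eq_mul, ← mul_assoc, h, mul_inv_cancel_right]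
  refine zpowers_le_K hJ ?_
  rw [← E_inf_C hJ]
  refine Subgroup.mem_inf.2 ⟨?_, mul_mem (inv_mem ha) ha'⟩
  show a⁻¹ * a' ∈ cE z
  rw [h1]
  exact mul_mem he (inv_mem he')

/-- The map of `C_H(P) E` onto M22. -/
noncomputable def qE : ↥(cCE z P) →* M :=
  MonoidHom.mk' (fun x => quo hJ ⟨(mem_cCE.1 x.2).choose, (mem_cCE.1 x.2).choose_spec.1⟩) fun x y => by
    set a := (mem_cCE.1 x.2).choose
    obtain ⟨ha, e, he, hx⟩ := (mem_cCE.1 x.2).choose_spec
    set b := (mem_cCE.1 y.2).choose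
    obtain ⟨hb, d, hd, hy⟩ := (mem_cCE.1 y.2).choose_spec
    obtain ⟨hc, k, hk, hxy⟩ := (mem_cCE.1 (x * y).2).choose_spec
    rw [← map_mul]
    refine decomp_unique hJ _ (mul_mem ha hb) hk (mul_mem ((Subgroup.mem_normalizer_iff''.1
      (cC_le_normalizer_E hb) e).1 he) hd) ?_
    refine hxy.trans ?_
    rw [Subgroup.coe_mul]
    calc (x : G) * y = (a * e) * (b * d) := congrArg₂ (· * ·) hx.symm hy.symm
      _ = (a * b) * (b⁻¹ * e * b * d) := by group

theorem qE_eq {x : ↥(cCE z P)} {a e : G} (ha : a ∈ cC z P) (he : e ∈ cE z) (h : a * e = x) :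
    qE hJ x = quo hJ ⟨a, ha⟩ := by
  obtain ⟨hc, k, hk, hx⟩ := (mem_cCE.1 x.2).choose_spec
  exact decomp_unique hJ hc ha hk he (hx.trans h.symm)

theorem qE_of_C {a : G} (ha : a ∈ cC z P) :
    qE hJ ⟨a, Subgroup.mem_sup_left ha⟩ = quo hJ ⟨a, ha⟩ :=
  qE_eq hJ ha (one_mem _) (mul_one a)

theorem qE_eq_one {x : ↥(cCE z P)} (h : qE hJ x = 1) : ∃ p ∈ P, ∃ e ∈ cE z, p * e = x := by
  obtain ⟨a, ha, e, he, hx⟩ := mem_cCE.1 x.2
  rw [qE_eq hJ ha he hx, quo_eq_one_iff] at h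
  have hn : Subgroup.zpowers z ≤ Subgroup.normalizer (P : Set G) :=
    Subgroup.zpowers_le.2 (Subgroup.centralizer_le_normalizer _ (z_mem_C_P hJ))
  obtain ⟨u, hu, p, hp, hup⟩ := (CfsgLib.Solvable.mem_sup_of_le_normalizer hn).1 h
  refine ⟨p, hp, u * e, mul_mem (Subgroup.zpowers_le.2 (z_mem_E hJ) hu) he, ?_⟩
  have hcomm : p * u = u * p := K_central hJ (P_le_K hJ hp) (K_le_C hJ (zpowers_le_K hJ hu))
  rw [← hx, show a = u * p from hup.symm, ← mul_assoc, hcomm]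

theorem qE_one_of_PE {x : ↥(cCE z P)} {p e : G} (hp : p ∈ P) (he : e ∈ cE z) (h : p * e = x) : qE hJ x = 1 := by
  rw [qE_eq hJ (P_le_C hJ hp) he h, quo_eq_one_iff]
  exact P_le_K hJ hp

theorem sq_mem_cCE {x : G} (hx : x ∈ cH z) : x * x ∈ cCE z P := by
  rw [H_eq hJ] at hx
  obtain ⟨a, ha, e, he, rfl⟩ :=
    (CfsgLib.Solvable.mem_sup_of_le_normalizer (inf_le_left.trans H_le_normalizer_E)).1 hx
  refine mem_cCE.2 ⟨a * a, ?_, a⁻¹ * e * a * e,
    mul_mem ((Subgroup.mem_normalizer_iff''.1 (H_le_normalizer_E ha.1) e).1 he) he, by group⟩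
  have h := Subgroup.mul_self_mem_of_index_two (index_C hJ) ⟨a, ha⟩
  exact h

/-- Elements of odd order of `H` lie in `C_H(P) E`. -/
theorem odd_mem_cCE {x : G} (hx : x ∈ cH z) {n : ℕ} (hn : Odd n) (h : x ^ n = 1) : x ∈ cCE z P := by
  obtain ⟨m, rfl⟩ := hn
  have e : x = (x * x) ^ (m + 1) := by
    rw [← pow_two, ← pow_mul, show 2 * (m + 1) = 2 * m + 1 + 1 by ring, pow_succ, h, one_mul]
  rw [e]
  exact pow_mem (sq_mem_cCE hJ hx) _

theorem card_PE : Nat.card ↥(P ⊔ cE z) = 3 * 2 ^ 13 := by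
  rw [CfsgLib.Solvable.card_sup_of_disjoint ((P_le_H hJ).trans H_le_normalizer_E)
    (Subgroup.inf_eq_bot_of_coprime (by rw [card_P hJ, card_E hJ]; decide)), card_P hJ, card_E hJ]

/-- `C_H(x)` has order prime to seven for an element `x` of order five of `C_H(P)`. -/
theorem eq_one_of_seven {f d : G} (hf : f ∈ cC z P) (hf5 : orderOf f = 5) (hd : d ∈ cH z) (h7 : d ^ 7 = 1)
    (hdf : d * f = f * d) : d = 1 := by
  have hdCE := odd_mem_cCE hJ hd (n := 7) (by decide) h7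
  have hfb : orderOf (quo hJ ⟨f, hf⟩) = 5 := by
    haveI : Fact (Nat.Prime 5) := ⟨by norm_num⟩
    refine orderOf_eq_prime (by rw [← map_pow, show (⟨f, hf⟩ : ↥(cC z P)) ^ 5 = 1 from
      Subtype.ext (by simp [← hf5, pow_orderOf_eq_one]), map_one]) fun h => ?_
    have := eq_one_of_K hJ ((quo_eq_one_iff hJ).1 h) (by show f ^ 5 = 1; rw [← hf5, pow_orderOf_eq_one])
    rw [show f = 1 from this, orderOf_one] at hf5
    norm_num at hf5
  have h1 : qE hJ ⟨d, hdCE⟩ = 1 := by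
    refine eq_one_of_comm_five hJ hfb ?_ (n := 7) ?_ (by decide)
    · rw [← qE_of_C hJ hf, ← map_mul, ← map_mul]
      exact congrArg _ (Subtype.ext hdf)
    · rw [← map_pow, show (⟨d, hdCE⟩ : ↥(cCE z P)) ^ 7 = 1 from Subtype.ext h7, map_one]
  obtain ⟨p, hp, e, he, hpe⟩ := qE_eq_one hJ h1
  have hmem : d ∈ P ⊔ cE z := by
    rw [← show p * e = d from hpe]
    exact mul_mem (Subgroup.mem_sup_left hp) (Subgroup.mem_sup_right he)
  have hc := pow_card_eq_one' (G := ↥(P ⊔ cE z)) (x := ⟨d, hmem⟩)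
  rw [card_PE hJ] at hc
  exact eq_one_of_coprime h7 (congrArg Subtype.val hc) (by decide)

end CfsgLib.J4Pentad
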