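/-
Facts on SL(3,2) and on the automorphisms of an elementary group of order eight, for the pentad
2-local subgroup of a group of Janko-four type.
-/
import Mathlib
import Cfsg.Agent.Classical.Transvections

set_option autoImplicit false
set_option linter.style.haveILetI false

namespace CfsgLib.J4Pentad

open Subgroup

abbrev SL32 := Matrix.SpecialLinearGroup (Fin 3) (ZMod 2)

theorem card_SL32 : Nat.card SL32 = 168 := by
  rw [Nat.card_eq_fintype_card]
  decide +kernel

theorem no_six_matrix : ∀ A : Matrix (Fin 3) (Fin 3) (ZMod 2), A ^ 6 = 1 → A ^ 2 = 1 ∨ A ^ 3 = 1 := by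
  decide +kernel

/-- A commuting pair of an involution and an element of order three does not occur in SL(3,2). -/
theorem no_six {a b : SL32} (ha : a ^ 2 = 1) (hb : b ^ 3 = 1) (h : Commute a b) : a = 1 ∨ b = 1 := by
  have h6 : (a * b) ^ 6 = 1 := by
    rw [h.mul_pow, show a ^ 6 = (a ^ 2) ^ 3 by rw [← pow_mul], show b ^ 6 = (b ^ 3) ^ 2 by rw [← pow_mul],
      ha, hb, one_pow, one_pow, one_mul]
  have h6' := congrArg (fun x : SL32 => (x : Matrix (Fin 3) (Fin 3) (ZMod 2))) h6
  simp only [Matrix.SpecialLinearGroup.coe_pow, Matrix.SpecialLinearGroup.coe_one] at h6'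
  rcases no_six_matrix _ h6' with e | e
  · right
    have e' : (a * b) ^ 2 = 1 := Subtype.ext (by simpa using e)
    rw [h.mul_pow, ha, one_mul] at e'
    rw [show b ^ 3 = b ^ 2 * b from pow_succ b 2, e', one_mul] at hb
    exact hb
  · left
    have e' : (a * b) ^ 3 = 1 := Subtype.ext (by simpa using e)
    rw [h.mul_pow, hb, mul_one] at e'
    rw [show a ^ 3 = a ^ 2 * a from pow_succ a 2, ha, one_mul] at e'
    exact e'

theorem center_SL32 : Subgroup.center SL32 = ⊥ := by
  refine (Subgroup.eq_bot_iff_forall _).2 fun A hA => ?_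
  obtain ⟨r, hr, he⟩ := Matrix.SpecialLinearGroup.mem_center_iff.1 hA
  have key : ∀ r : ZMod 2, r ^ 3 = 1 → r = 1 := by decide +kernel
  have h1 : r = 1 := key r (by rwa [Fintype.card_fin] at hr)
  rw [h1, map_one] at he
  exact Subtype.ext he.symm

theorem simple_SL32 : IsSimpleGroup SL32 := by
  haveI := CfsgLib.Linear.isSimpleGroup_PSL (ι := Fin 3) (F := ZMod 2) (Or.inl (by simp))
  exact ((QuotientGroup.quotientMulEquivOfEq center_SL32).trans QuotientGroup.quotientBot).isSimpleGroup_congr.1
    inferInstance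

theorem not_comm_SL32 : ∃ a b : SL32, a * b ≠ b * a := by
  by_contra h
  push Not at h
  have htop : Subgroup.center SL32 = ⊤ := eq_top_iff.2 fun a _ => Subgroup.mem_center_iff.2 fun b => h b a
  rw [center_SL32] at htop
  haveI := simple_SL32
  haveI : Nontrivial SL32 := IsSimpleGroup.toNontrivial
  exact bot_ne_top htop

/-- The automorphism group of an elementary group of order eight is SL(3,2). -/
theorem exists_mulAut_equiv {U : Type*} [CommGroup U] [Finite U] (h2 : ∀ u : U, u * u = 1)
    (hc : Nat.card U = 8) : Nonempty (MulAut U ≃* SL32) := by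
  letI : Module (ZMod 2) (Additive U) := AddCommGroup.zmodModule fun x => by
    rw [two_nsmul]; exact congrArg Additive.ofMul (h2 x.toMul)
  have hr : Module.finrank (ZMod 2) (Additive U) = 3 := by
    have h := Module.natCard_eq_pow_finrank (K := ZMod 2) (V := Additive U)
    rw [Nat.card_zmod, show Nat.card (Additive U) = 2 ^ 3 by
      rw [Nat.card_congr Additive.toMul, hc]; norm_num] at h
    exact (Nat.pow_right_injective le_rfl h).symm
  let b := Module.finBasisOfFinrankEq (ZMod 2) (Additive U) hr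
  let lin : MulAut U →* Module.End (ZMod 2) (Additive U) :=
    { toFun := fun φ => (MonoidHom.toAdditive φ.toMonoidHom).toZModLinearMap 2
      map_one' := LinearMap.ext fun _ => rfl
      map_mul' := fun _ _ => LinearMap.ext fun _ => rfl }
  let g : MulAut U →* Matrix (Fin 3) (Fin 3) (ZMod 2) :=
    ((LinearMap.toMatrixAlgEquiv b).toAlgHom.toRingHom.toMonoidHom).comp lin
  have hdet : ∀ φ, (g φ).det = 1 := fun φ =>
    (by decide +kernel : ∀ a : ZMod 2, a ≠ 0 → a = 1) _
      ((Matrix.isUnit_iff_isUnit_det _).1 ((Group.isUnit φ).map g)).ne_zero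
  let f : MulAut U →* SL32 :=
    { toFun := fun φ => ⟨g φ, hdet φ⟩
      map_one' := Subtype.ext g.map_one
      map_mul' := fun a c => Subtype.ext (g.map_mul a c) }
  refine ⟨MulEquiv.ofBijective f ⟨fun a c h => ?_, fun A => ?_⟩⟩
  · have h' := (LinearMap.toMatrixAlgEquiv b).injective (congrArg Subtype.val h)
    exact MulEquiv.ext fun x => congrArg Additive.toMul (LinearMap.congr_fun h' (Additive.ofMul x))
  · set ℓ := Matrix.toLinAlgEquiv b A.1 with hℓ
    set ℓ' := Matrix.toLinAlgEquiv b (A⁻¹).1 with hℓ'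
    have h1 : ∀ x, ℓ' (ℓ x) = x := fun x => by
      rw [hℓ, hℓ', ← Module.End.mul_apply, ← map_mul, ← Matrix.SpecialLinearGroup.coe_mul, inv_mul_cancel]
      simp
    have h1' : ∀ x, ℓ (ℓ' x) = x := fun x => by
      rw [hℓ, hℓ', ← Module.End.mul_apply, ← map_mul, ← Matrix.SpecialLinearGroup.coe_mul, mul_inv_cancel]
      simp
    refine ⟨
      { toFun := fun x => Additive.toMul (ℓ (Additive.ofMul x))
        invFun := fun x => Additive.toMul (ℓ' (Additive.ofMul x))
        left_inv := fun x => by simp [h1]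
        right_inv := fun x => by simp [h1']
        map_mul' := fun x y => by rw [ofMul_mul, map_add]; rfl }, Subtype.ext ?_⟩
    exact (LinearMap.toMatrixAlgEquiv b).symm.injective (LinearMap.ext fun x => by
      show (LinearMap.toMatrixAlgEquiv b).symm ((LinearMap.toMatrixAlgEquiv b) _) x = _
      rw [AlgEquiv.symm_apply_apply]; rfl)

/-- The automorphisms of an elementary subgroup of order eight of a group. -/
theorem exists_mulAut_subgroup {G : Type*} [Group G] [Finite G] {Z : Subgroup G}
    (hc : ∀ a ∈ Z, ∀ b ∈ Z, a * b = b * a) (h2 : ∀ a ∈ Z, a * a = 1) (h8 : Nat.card Z = 8) :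
    Nonempty (MulAut ↥Z ≃* SL32) := by
  letI : CommGroup ↥Z :=
    { (inferInstance : Group ↥Z) with mul_comm := fun a b => Subtype.ext (hc a a.2 b b.2) }
  exact exists_mulAut_equiv (fun u => Subtype.ext (h2 u u.2)) h8

theorem card_mulAut {G : Type*} [Group G] [Finite G] {Z : Subgroup G}
    (hc : ∀ a ∈ Z, ∀ b ∈ Z, a * b = b * a) (h2 : ∀ a ∈ Z, a * a = 1) (h8 : Nat.card Z = 8) :
    Nat.card (MulAut ↥Z) = 168 := by
  obtain ⟨e⟩ := exists_mulAut_subgroup hc h2 h8
  rw [Nat.card_congr e.toEquiv, card_SL32]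

end CfsgLib.J4Pentad
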