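/-
Janko-four type, the pentad 2-local subgroup: the eights group `Z` attached to an element `f` of order five
of `C_H(P)`; it lies in `E`, contains `z`, and all its involutions are conjugate to `z`.
-/
import Cfsg.Agent.J4Local.Pentad.QuoE
import Cfsg.Agent.J4Local.Pentad.SLThree
import Cfsg.Prelude.Def_TwoFusion

set_option autoImplicit false
set_option linter.style.haveILetI false
set_option linter.unusedSectionVars false

namespace CfsgLib.J4Pentad

open Subgroup CfsgLib.J4Local CfsgLib.J4Local.M22Elem CfsgLib.J4Local.FixMod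

variable {G : Type*} [Group G]

/-- The data of an element of order five of `C_H(P)` and the structure of its centraliser. -/
structure Dat (z : G) (P : Subgroup G) where
  f : G
  f_mem : f ∈ cC z P
  f_ord : orderOf f = 5
  J : Subgroup G
  Z : Subgroup G
  hdp : Cfsg.IsInternalDirectProduct (zpowers f) J (centralizer ({f} : Set G))
  Z_le : Z ≤ J
  Z_comm : ∀ a ∈ Z, ∀ b ∈ Z, a * b = b * a
  Z_sq : ∀ a ∈ Z, a * a = 1
  Z_card : Nat.card Z = 8
  φ : ↥J →* SL32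
  φ_surj : Function.Surjective φ
  φ_ker : φ.ker = Z.subgroupOf J
  no_compl : ∀ K : Subgroup G, K ≤ J → K ⊓ Z = ⊥ → Nat.card K ≠ 168
  card_N : Nat.card ↥(normalizer ((zpowers f : Subgroup G) : Set G)) = 2 ^ 8 * 3 * 5 * 7

variable {z : G} {P : Subgroup G} [Finite G] (D : Dat z P)

/-- The centraliser of the element of order five. -/
abbrev Dat.Cf : Subgroup G := centralizer ({D.f} : Set G)

theorem Dat.J_le : D.J ≤ D.Cf := D.hdp.2.1

theorem Dat.f_Cf : D.f ∈ D.Cf := mem_centralizer_singleton_iff.2 rfl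

theorem Dat.f_pow : D.f ^ 5 = 1 := D.f_ord ▸ pow_orderOf_eq_one D.f

theorem Dat.mem_Cf {x : G} (hx : x ∈ D.Cf) : ∃ g ∈ zpowers D.f, ∃ j ∈ D.J, g * j = x := by
  have hn : zpowers D.f ≤ normalizer (D.J : Set G) :=
    le_normalizer_of_conj fun g hg j hj => by
      rwa [D.hdp.2.2.1 g hg j hj, mul_inv_cancel_right]
  refine (CfsgLib.Solvable.mem_sup_of_le_normalizer hn).1 ?_
  rw [D.hdp.2.2.2.2]
  exact hx

theorem Dat.f_comm_J {g j : G} (hg : g ∈ zpowers D.f) (hj : j ∈ D.J) : Commute g j := D.hdp.2.2.1 g hg j hj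

/-- Elements of order prime to five of `C(f)` lie in `J`. -/
theorem Dat.mem_J {x : G} (hx : x ∈ D.Cf) {n : ℕ} (h : x ^ n = 1) (hn : Nat.Coprime n 5) : x ∈ D.J := by
  obtain ⟨g, hg, j, hj, rfl⟩ := D.mem_Cf hx
  rw [(D.f_comm_J hg hj).mul_pow] at h
  have hgJ : g ^ n ∈ D.J := by rw [eq_inv_of_mul_eq_one_left h]; exact inv_mem (pow_mem hj n)
  have hgn : g ^ n ∈ zpowers D.f ⊓ D.J := mem_inf.2 ⟨pow_mem hg n, hgJ⟩
  rw [D.hdp.2.2.2.1, mem_bot] at hgn
  have hg5 : g ^ 5 = 1 := by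
    obtain ⟨i, rfl⟩ := hg
    show (D.f ^ i) ^ 5 = 1
    rw [← zpow_natCast, ← zpow_mul, mul_comm, zpow_mul, zpow_natCast, D.f_pow, one_zpow]
  rw [eq_one_of_coprime hgn hg5 hn, one_mul]
  exact hj

theorem Dat.card_J : Nat.card D.J = 1344 := by
  rw [Subgroup.card_eq_card_quotient_mul_card_subgroup D.φ.ker,
    Nat.card_congr (QuotientGroup.quotientKerEquivOfSurjective D.φ D.φ_surj).toEquiv, card_SL32, D.φ_ker,
    Nat.card_congr (subgroupOfEquivOfLe D.Z_le).toEquiv, D.Z_card]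

theorem Dat.card_Cf : Nat.card D.Cf = 6720 := by
  have hn : zpowers D.f ≤ normalizer (D.J : Set G) :=
    le_normalizer_of_conj fun g hg j hj => by
      rwa [D.hdp.2.2.1 g hg j hj, mul_inv_cancel_right]
  have h := CfsgLib.Solvable.card_sup_of_disjoint hn D.hdp.2.2.2.1
  rw [D.hdp.2.2.2.2, Nat.card_zpowers, D.f_ord, D.card_J] at h
  exact h

theorem Dat.J_le_normalizer : D.J ≤ normalizer (D.Z : Set G) := by
  haveI : (D.Z.subgroupOf D.J).Normal := D.φ_ker ▸ MonoidHom.normal_ker D.φ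
  exact (normal_subgroupOf_iff_le_normalizer D.Z_le).1 inferInstance

theorem Dat.Cf_le_normalizer : D.Cf ≤ normalizer (D.Z : Set G) := by
  intro x hx
  obtain ⟨g, hg, j, hj, rfl⟩ := D.mem_Cf hx
  refine mul_mem (le_normalizer_of_conj (fun k hk a ha => ?_) hg) (D.J_le_normalizer hj)
  rwa [(D.f_comm_J hk (D.Z_le ha)).eq, mul_inv_cancel_right]

theorem Dat.Z_le_Cf : D.Z ≤ D.Cf := D.Z_le.trans D.J_le

theorem Dat.isPGroup_Z : IsPGroup 2 D.Z := IsPGroup.of_card (n := 3) (by rw [D.Z_card]; norm_num)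

/-- `Z` is the largest 2-subgroup of `C(f)` normalised by `J`. -/
theorem Dat.le_Z {R : Subgroup G} (hR : R ≤ D.Cf) (h2 : IsPGroup 2 R) (hn : D.J ≤ normalizer (R : Set G)) :
    R ≤ D.Z := by
  have hRJ : R ≤ D.J := fun x hx => by
    obtain ⟨k, hk⟩ := h2 ⟨x, hx⟩
    exact D.mem_J (hR hx) (congrArg Subtype.val hk) (Nat.Coprime.pow_left k (by decide))
  haveI : (R.subgroupOf D.J).Normal := (normal_subgroupOf_iff_le_normalizer hRJ).2 hn
  haveI := simple_SL32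
  have hN : ((R.subgroupOf D.J).map D.φ).Normal := Subgroup.Normal.map inferInstance D.φ D.φ_surj
  rcases hN.eq_bot_or_eq_top with e | e
  · intro x hx
    have : (⟨x, hRJ hx⟩ : ↥D.J) ∈ D.φ.ker := (Subgroup.map_eq_bot_iff _).1 e hx
    rwa [D.φ_ker, mem_subgroupOf] at this
  · exfalso
    have hp : IsPGroup 2 ↥((R.subgroupOf D.J).map D.φ) :=
      (h2.of_equiv (subgroupOfEquivOfLe hRJ).symm).map D.φ
    rw [e] at hp
    haveI : Fact (Nat.Prime 2) := ⟨Nat.prime_two⟩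
    obtain ⟨k, hk⟩ := IsPGroup.iff_card.1 hp
    rw [card_top, card_SL32] at hk
    have : (3 : ℕ) ∣ 2 ^ k := hk ▸ (by norm_num)
    exact absurd (Nat.prime_three.dvd_of_dvd_pow this) (by norm_num)

theorem Dat.conj_Cf {g x : G} (hg : g ∈ normalizer ((zpowers D.f : Subgroup G) : Set G)) (hx : x ∈ D.Cf) :
    g * x * g⁻¹ ∈ D.Cf := by
  refine mem_centralizer_singleton_iff.2 ?_
  have h := (mem_normalizer_iff.1 (inv_mem hg) D.f).1 (mem_zpowers D.f)
  rw [inv_inv] at h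
  obtain ⟨i, hi⟩ := h
  have hc : Commute x (g⁻¹ * D.f * g) := by
    rw [← hi]
    exact (show Commute x D.f from mem_centralizer_singleton_iff.1 hx).zpow_right i
  calc g * x * g⁻¹ * D.f = g * (x * (g⁻¹ * D.f * g)) * g⁻¹ := by group
    _ = D.f * (g * x * g⁻¹) := by rw [hc.eq]; group

/-- The normaliser of `⟨f⟩` normalises `Z`. -/
theorem Dat.normalizer_f_le : normalizer ((zpowers D.f : Subgroup G) : Set G) ≤ normalizer (D.Z : Set G) := by
  intro g hg
  refine mem_normalizer_iff_map_conj_eq.2 (Subgroup.eq_of_le_of_card_ge ?_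
    (by rw [card_map_of_injective (MulAut.conj g).injective]))
  refine D.le_Z (by rintro _ ⟨x, hx, rfl⟩; exact D.conj_Cf hg (D.Z_le_Cf hx))
    (D.isPGroup_Z.map _) (le_normalizer_of_conj ?_)
  rintro j hj _ ⟨x, hx, rfl⟩
  have hj' : g⁻¹ * j * g⁻¹⁻¹ ∈ D.Cf := D.conj_Cf (inv_mem hg) (D.J_le hj)
  refine ⟨_, (mem_normalizer_iff.1 (D.Cf_le_normalizer hj') x).1 hx, ?_⟩
  show g * (g⁻¹ * j * g⁻¹⁻¹ * x * (g⁻¹ * j * g⁻¹⁻¹)⁻¹) * g⁻¹ = j * (g * x * g⁻¹) * j⁻¹
  group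

variable (hJ : Cfsg.IsOfJankoFourTypeWith z P)

include hJ

theorem Dat.P_pow {p : G} (hp : p ∈ P) : p ^ 3 = 1 := by
  have h := pow_card_eq_one' (G := ↥P) (x := ⟨p, hp⟩)
  rw [card_P hJ] at h
  exact congrArg Subtype.val h

theorem Dat.P_le_Cf : P ≤ D.Cf := fun p hp =>
  mem_centralizer_singleton_iff.2 (mem_centralizer_iff.1 D.f_mem.2 p hp)

theorem Dat.P_le_J : P ≤ D.J := fun _ hp => D.mem_J (D.P_le_Cf hJ hp) (Dat.P_pow hJ hp) (by decide)

theorem Dat.z_mem_J : z ∈ D.J :=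
  D.mem_J (mem_centralizer_singleton_iff.2 (mem_cH.1 D.f_mem.1).symm) (n := 2)
    (by rw [← orderOf_z hJ, pow_orderOf_eq_one]) (by decide)

theorem Dat.exists_p : ∃ p ∈ P, p ≠ 1 := by
  refine (Subgroup.bot_or_exists_ne_one P).resolve_left fun h => ?_
  have := card_P hJ
  rw [h, card_bot] at this
  norm_num at this

theorem Dat.z_mem_Z : z ∈ D.Z := by
  obtain ⟨p, hp, hp1⟩ := Dat.exists_p hJ
  have hz2 : z ^ 2 = 1 := by rw [← orderOf_z hJ, pow_orderOf_eq_one]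
  have hcomm : Commute z p := (mem_centralizer_iff.1 (z_mem_C_P hJ) p hp).symm
  let zj : ↥D.J := ⟨z, D.z_mem_J hJ⟩
  let pj : ↥D.J := ⟨p, D.P_le_J hJ hp⟩
  rcases no_six (a := D.φ zj) (b := D.φ pj)
    (by rw [← map_pow, show zj ^ 2 = 1 from Subtype.ext hz2, map_one])
    (by rw [← map_pow, show pj ^ 3 = 1 from Subtype.ext (Dat.P_pow hJ hp), map_one])
    ((show Commute zj pj from Subtype.ext hcomm).map D.φ) with h | h
  · have : zj ∈ D.φ.ker := h
    rwa [D.φ_ker] at this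
  · exfalso
    have : pj ∈ D.φ.ker := h
    rw [D.φ_ker] at this
    have h8 := pow_card_eq_one' (G := ↥D.Z) (x := ⟨p, this⟩)
    rw [D.Z_card] at h8
    exact hp1 (eq_one_of_coprime (congrArg Subtype.val h8) (Dat.P_pow hJ hp) (by decide))

theorem Dat.Z_le_H : D.Z ≤ cH z := fun _ ha => mem_cH.2 (D.Z_comm _ ha _ (D.z_mem_Z hJ))

theorem Dat.P_le_normalizer : P ≤ normalizer (D.Z : Set G) := (D.P_le_J hJ).trans D.J_le_normalizer

theorem Dat.PE_two {x : G} (hp : x ∈ P) (hx : x ∈ D.Z ⊔ cE z) : x = 1 := by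
  have hd : Nat.card ↥(D.Z ⊔ cE z) ∣ 2 ^ 16 := by
    refine (CfsgLib.Solvable.card_sup_dvd ((D.Z_le_H hJ).trans H_le_normalizer_E)).trans ?_
    rw [D.Z_card, card_E hJ]
    norm_num
  have h := pow_card_eq_one' (G := ↥(D.Z ⊔ cE z)) (x := ⟨x, hx⟩)
  obtain ⟨c, hc⟩ := hd
  refine eq_one_of_coprime (Dat.P_pow hJ hp) (n := 2 ^ 16) ?_ (by decide)
  rw [hc, pow_mul, show x ^ Nat.card ↥(D.Z ⊔ cE z) = 1 from congrArg Subtype.val h, one_pow]

theorem Dat.f_quo : orderOf (quo hJ ⟨D.f, D.f_mem⟩) = 5 := by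
  haveI : Fact (Nat.Prime 5) := ⟨by norm_num⟩
  refine orderOf_eq_prime (by rw [← map_pow, show (⟨D.f, D.f_mem⟩ : ↥(cC z P)) ^ 5 = 1 from
    Subtype.ext D.f_pow, map_one]) fun h => ?_
  have h1 := eq_one_of_K hJ ((quo_eq_one_iff hJ).1 h) D.f_pow
  have := D.f_ord
  rw [show D.f = 1 from h1, orderOf_one] at this
  norm_num at this

theorem Dat.Z_le_E : D.Z ≤ cE z := by
  intro q hq
  have hqH := D.Z_le_H hJ hq
  rw [H_eq hJ] at hqH
  obtain ⟨a, ha, e, he, hae⟩ :=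
    (CfsgLib.Solvable.mem_sup_of_le_normalizer (inf_le_left.trans H_le_normalizer_E)).1 hqH
  have haC : a ∈ cC z P := by
    refine ⟨ha.1, mem_centralizer_iff.2 fun p hp => ?_⟩
    have h1 : a * p * a⁻¹ * p⁻¹ ∈ P := mul_mem ((mem_normalizer_iff.1 ha.2 p).1 hp) (inv_mem hp)
    have h2 : q * p * q⁻¹ * p⁻¹ ∈ D.Z := by
      rw [show q * p * q⁻¹ * p⁻¹ = q * (p * q⁻¹ * p⁻¹) by group]
      exact mul_mem hq ((mem_normalizer_iff.1 (D.P_le_normalizer hJ hp) _).1 (inv_mem hq))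
    have h3 : a * (e * (p * e⁻¹ * p⁻¹)) * a⁻¹ ∈ cE z :=
      (mem_normalizer_iff.1 (H_le_normalizer_E ha.1) _).1
        (mul_mem he ((mem_normalizer_iff.1 (H_le_normalizer_E (P_le_H hJ hp)) _).1 (inv_mem he)))
    have h4 : a * p * a⁻¹ * p⁻¹ = (a * (e * (p * e⁻¹ * p⁻¹)) * a⁻¹)⁻¹ * (q * p * q⁻¹ * p⁻¹) := by
      rw [← hae]; group
    have h5 := D.PE_two hJ h1 (h4 ▸ mul_mem (mem_sup_right (inv_mem h3)) (mem_sup_left h2))
    exact (mul_inv_eq_iff_eq_mul.1 (mul_inv_eq_one.1 h5)).symm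
  have hqCE : q ∈ cCE z P := mem_cCE.2 ⟨a, haC, e, he, hae⟩
  have h1 : qE hJ ⟨q, hqCE⟩ = 1 := by
    refine eq_one_of_comm_five hJ (D.f_quo hJ) ?_ (n := 2) ?_ (by decide)
    · rw [← qE_of_C hJ D.f_mem, ← map_mul, ← map_mul]
      exact congrArg _ (Subtype.ext (mem_centralizer_singleton_iff.1 (D.Z_le_Cf hq)))
    · rw [← map_pow, show (⟨q, hqCE⟩ : ↥(cCE z P)) ^ 2 = 1 from Subtype.ext (by simp [pow_two, D.Z_sq q hq]),
        map_one]
  obtain ⟨p, hp, d, hd, hpd⟩ := qE_eq_one hJ h1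
  have hp1 : p = 1 := D.PE_two hJ hp (by
    rw [show p = q * d⁻¹ from eq_mul_inv_of_mul_eq hpd]
    exact mul_mem (mem_sup_left hq) (mem_sup_right (inv_mem hd)))
  rw [← show p * d = q from hpd, hp1, one_mul]
  exact hd

theorem Dat.z_ne_one' : z ≠ 1 := z_ne_one hJ

/-- All involutions of `Z` are conjugate to `z` in `J`. -/
theorem Dat.transitive {y : G} (hy : y ∈ D.Z) (hy1 : y ≠ 1) : ∃ g ∈ D.J, g * z * g⁻¹ = y := by
  classical
  letI : MulAction ↥D.J G := MulAction.compHom G (ConjAct.toConjAct.toMonoidHom.comp D.J.subtype)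
  have hsmul : ∀ (j : ↥D.J) (x : G), j • x = (j : G) * x * (j : G)⁻¹ := fun j x => rfl
  have hsub : MulAction.orbit ↥D.J z ⊆ (D.Z : Set G) \ {1} := by
    rintro _ ⟨j, rfl⟩
    refine ⟨(mem_normalizer_iff.1 (D.J_le_normalizer j.2) z).1 (D.z_mem_Z hJ), fun h => z_ne_one hJ ?_⟩
    exact conj_eq_one_iff.1 h
  have hcard : ((D.Z : Set G) \ {1}).ncard = 7 := by
    rw [Set.ncard_diff_singleton_of_mem (one_mem D.Z), ← Nat.card_coe_set_eq]
    show Nat.card D.Z - 1 = 7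
    rw [D.Z_card]
  have h := MulAction.index_stabilizer ↥D.J z
  have h' := (MulAction.stabilizer ↥D.J z).card_mul_index
  rw [h, D.card_J] at h'
  haveI : Fact (Nat.Prime 7) := ⟨by norm_num⟩
  have h7 : ¬ 7 ∣ Nat.card (MulAction.stabilizer ↥D.J z) := by
    intro hd
    obtain ⟨d, hd7⟩ := exists_prime_orderOf_dvd_card' 7 hd
    rw [← orderOf_coe, ← orderOf_coe] at hd7
    have hdz : ((d : ↥D.J) : G) * z * ((d : ↥D.J) : G)⁻¹ = z := d.2
    have := eq_one_of_seven hJ D.f_mem D.f_ord (mem_cH.2 (mul_inv_eq_iff_eq_mul.1 hdz))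
      (hd7 ▸ pow_orderOf_eq_one _) (mem_centralizer_singleton_iff.1 (D.J_le d.1.2))
    rw [this, orderOf_one] at hd7
    norm_num at hd7
  have h7' : 7 ∣ (MulAction.orbit ↥D.J z).ncard := by
    have : 7 ∣ Nat.card (MulAction.stabilizer ↥D.J z) * (MulAction.orbit ↥D.J z).ncard := by
      rw [h']; norm_num
    exact ((Fact.out : Nat.Prime 7).dvd_mul.1 this).resolve_left h7
  have hpos : 0 < (MulAction.orbit ↥D.J z).ncard := (Set.ncard_pos).2 ⟨z, MulAction.mem_orbit_self z⟩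
  have heq : MulAction.orbit ↥D.J z = (D.Z : Set G) \ {1} := Set.eq_of_subset_of_ncard_le hsub (by
    rw [hcard]; exact Nat.le_of_dvd hpos h7')
  obtain ⟨j, hj⟩ : y ∈ MulAction.orbit ↥D.J z := by rw [heq]; exact ⟨hy, hy1⟩
  exact ⟨j, j.2, hj⟩

/-- `J` acts on `Z` with kernel `Z`. -/
theorem Dat.mem_Z_of_comm {x : G} (hx : x ∈ D.J) (h : ∀ a ∈ D.Z, x * a = a * x) : x ∈ D.Z := by
  let K : Subgroup ↥D.J := (centralizer (D.Z : Set G)).subgroupOf D.J
  haveI : K.Normal := by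
    refine ⟨fun k hk j => mem_subgroupOf.2 (mem_centralizer_iff.2 fun a ha => ?_)⟩
    have ha' : (j : G)⁻¹ * a * (j : G) ∈ D.Z := (mem_normalizer_iff''.1 (D.J_le_normalizer j.2) a).1 ha
    have := mem_centralizer_iff.1 (mem_subgroupOf.1 hk) _ ha'
    simp only [Subgroup.coe_mul, Subgroup.coe_inv]
    calc a * ((j : G) * k * (j : G)⁻¹) = (j : G) * ((j : G)⁻¹ * a * (j : G) * k) * (j : G)⁻¹ := by group
      _ = (j : G) * k * (j : G)⁻¹ * a := by rw [this]; group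
  haveI := simple_SL32
  rcases (Subgroup.Normal.map (inferInstance : K.Normal) D.φ D.φ_surj).eq_bot_or_eq_top with e | e
  · have : (⟨x, hx⟩ : ↥D.J) ∈ D.φ.ker :=
      (Subgroup.map_eq_bot_iff _).1 e (mem_subgroupOf.2 (mem_centralizer_iff.2 fun a ha => (h a ha).symm))
    rwa [D.φ_ker] at this
  · exfalso
    have hKtop : K = ⊤ := by
      have h1 := congrArg (Subgroup.comap D.φ) e
      rw [comap_map_eq, comap_top, D.φ_ker, sup_eq_left.2] at h1
      · exact h1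
      · intro k hk
        exact mem_subgroupOf.2 (mem_centralizer_iff.2 fun a ha => D.Z_comm a ha k (mem_subgroupOf.1 hk))
    obtain ⟨y, hy, hy1, hyz⟩ : ∃ y ∈ D.Z, y ≠ 1 ∧ y ≠ z := by
      by_contra hno
      push Not at hno
      have hle : (D.Z : Set G) ⊆ {1, z} := fun a ha => by
        by_cases h1 : a = 1
        · exact Or.inl h1
        · exact Or.inr (hno a ha h1)
      have := Set.ncard_le_ncard hle
      rw [← Nat.card_coe_set_eq, Set.ncard_pair (z_ne_one hJ).symm] at this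
      have h8 : Nat.card ↥(D.Z : Set G) = 8 := D.Z_card
      omega
    obtain ⟨g, hg, hgy⟩ := D.transitive hJ hy hy1
    have hgc := mem_centralizer_iff.1 (mem_subgroupOf.1 (hKtop ▸ mem_top (⟨g, hg⟩ : ↥D.J))) z (D.z_mem_Z hJ)
    refine hyz ?_
    rw [← hgy, ← hgc, mul_inv_cancel_right]

end CfsgLib.J4Pentad
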