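/-
Janko-four type, the pentad 2-local subgroup: the stabiliser of `Z` in `C_H(P)` maps onto a subgroup
of order 1920 of M22.
-/
import Cfsg.Agent.J4Local.Pentad.ZSub
import Cfsg.Agent.J4Local.OrbitFix

set_option autoImplicit false
set_option linter.style.haveILetI false
set_option linter.unusedSectionVars false

namespace CfsgLib.J4Pentad

open Subgroup CfsgLib.J4Local CfsgLib.J4Local.M22Elem CfsgLib.J4Local.FixMod

variable {G : Type*} [Group G] [Finite G] {z : G} {P : Subgroup G} (D : Dat z P)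

/-- The stabiliser of `Z` in `C_H(P)`. -/
abbrev Dat.St : Subgroup G := cC z P ⊓ normalizer (D.Z : Set G)

/-- The elements of the stabiliser acting trivially on `Z` modulo `z`. -/
abbrev Dat.St1 : Subgroup G := D.St ⊓ fixer D.Z (zpowers z)

variable (hJ : Cfsg.IsOfJankoFourTypeWith z P)

include hJ

theorem Dat.exists_w : ∃ w ∈ D.Z, w ≠ 1 ∧ w ≠ z := by
  by_contra hno
  push Not at hno
  have hle : (D.Z : Set G) ⊆ {1, z} := fun a ha => by
    by_cases h1 : a = 1
    · exact Or.inl h1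
    · exact Or.inr (hno a ha h1)
  have := Set.ncard_le_ncard hle
  rw [← Nat.card_coe_set_eq, Set.ncard_pair (z_ne_one hJ).symm] at this
  have h8 : Nat.card ↥(D.Z : Set G) = 8 := D.Z_card
  omega

theorem Dat.K_le_St : cK z P ≤ D.St := by
  refine le_inf (K_le_C hJ) (sup_le (zpowers_le.2 ?_) (D.P_le_normalizer hJ))
  exact le_normalizer (D.z_mem_Z hJ)

theorem Dat.f_mem_St : D.f ∈ D.St :=
  ⟨D.f_mem, D.Cf_le_normalizer D.f_Cf⟩

theorem Dat.card_St : Nat.card D.St = 6 * Nat.card (img hJ D.St) := by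
  have h := card_img hJ (inf_le_left : D.St ≤ cC z P)
  rw [inf_eq_right.2 (D.K_le_St hJ), card_K hJ] at h
  rw [mul_comm]
  exact h.symm

/-- A conjugate of `Z` other than `Z` meets it in `⟨z⟩`. -/
theorem Dat.inter_conj {m w : G} (hm : m ∈ cC z P) (hw : w ∈ D.Z) (hw' : m⁻¹ * w * m ∈ D.Z) (h1 : w ≠ 1)
    (h2 : w ≠ z) : m ∈ normalizer (D.Z : Set G) := by
  set I := D.Z ⊓ D.Z.map (MulAut.conj m).toMonoidHom with hI
  have hzI : z ∈ I := mem_inf.2 ⟨D.z_mem_Z hJ, ⟨z, D.z_mem_Z hJ, by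
    show m * z * m⁻¹ = z
    rw [mem_cH.1 hm.1, mul_inv_cancel_right]⟩⟩
  have hwI : w ∈ I := mem_inf.2 ⟨hw, ⟨_, hw', show m * (m⁻¹ * w * m) * m⁻¹ = w by group⟩⟩
  have hP : P ≤ normalizer (I : Set G) := le_normalizer_of_conj fun p hp x hx => by
    obtain ⟨hx1, y, hy, rfl⟩ := mem_inf.1 hx
    refine mem_inf.2 ⟨(mem_normalizer_iff.1 (D.P_le_normalizer hJ hp) _).1 hx1,
      ⟨p * y * p⁻¹, (mem_normalizer_iff.1 (D.P_le_normalizer hJ hp) y).1 hy, ?_⟩⟩
    have hc : Commute m p := (mem_centralizer_iff.1 hm.2 p hp).symm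
    show m * (p * y * p⁻¹) * m⁻¹ = p * (m * y * m⁻¹) * p⁻¹
    calc m * (p * y * p⁻¹) * m⁻¹ = (m * p) * y * (m * p)⁻¹ := by group
      _ = p * (m * y * m⁻¹) * p⁻¹ := by rw [hc.eq]; group
  have h3 := card_mod_three hJ ((inf_le_left : I ≤ D.Z).trans (D.Z_le_E hJ)) hzI hP
  have hd := card_dvd_of_le (inf_le_left : I ≤ D.Z)
  rw [D.Z_card] at hd
  have h2' : 2 < Nat.card I := by
    have hsub : ({1, z, w} : Set G) ⊆ (I : Set G) := by
      rintro a (rfl | rfl | rfl) <;> first | exact one_mem I | exact hzI | exact hwI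
    have h := Set.ncard_le_ncard hsub
    rw [Set.ncard_insert_of_notMem (by
        rintro (h' | h')
        · exact z_ne_one hJ h'.symm
        · exact h1 h'.symm), Set.ncard_pair (Ne.symm h2), ← Nat.card_coe_set_eq] at h
    have h' : Nat.card ↥(I : Set G) = Nat.card I := rfl
    omega
  have h8 : Nat.card I = 8 := by
    obtain ⟨k, hk, hk'⟩ := (Nat.dvd_prime_pow Nat.prime_two).1 (show Nat.card I ∣ 2 ^ 3 from hd)
    rw [hk'] at h3 h2' ⊢
    interval_cases k <;> simp_all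
  have hIZ : I = D.Z := eq_of_le_of_card_ge inf_le_left (by rw [h8, D.Z_card])
  refine mem_normalizer_iff_map_conj_eq.2 (eq_of_le_of_card_ge ?_ ?_).symm
  · exact hIZ.ge.trans inf_le_right
  · rw [card_map_of_injective (MulAut.conj m).injective]

/-- The conjugates of `Z` give disjoint sets of six noncentral involutions of `E`. -/
theorem Dat.orbit_bound : (D.St.subgroupOf (cC z P)).index * 6 ≤ 4158 := by
  classical
  set S' := D.St.subgroupOf (cC z P)
  let W : Set G := (D.Z : Set G) \ {1, z}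
  have hW : W.ncard = 6 := by
    show ((D.Z : Set G) \ {1, z}).ncard = 6
    rw [Set.ncard_diff (by rintro a (rfl | rfl) <;> first | exact one_mem D.Z | exact D.z_mem_Z hJ),
      Set.ncard_pair (z_ne_one hJ).symm, ← Nat.card_coe_set_eq]
    show Nat.card D.Z - 2 = 6
    rw [D.Z_card]
  let F : (↥(cC z P) ⧸ S') × W → invSet z (cE z) := fun x => ⟨(x.1.out : G) * x.2 * (x.1.out : G)⁻¹, by
    obtain ⟨hw, hw'⟩ := x.2.2
    have hw1 : (x.2 : G) ≠ 1 := fun h => hw' (Or.inl h)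
    have hw2 : (x.2 : G) ≠ z := fun h => hw' (Or.inr h)
    have hC := x.1.out.2
    refine ⟨(mem_normalizer_iff.1 (H_le_normalizer_E hC.1) _).1 (D.Z_le_E hJ hw), ?_, ?_, ?_⟩
    · calc _ = (x.1.out : G) * ((x.2 : G) * x.2) * (x.1.out : G)⁻¹ := by group
        _ = 1 := by rw [D.Z_sq _ hw]; group
    · exact fun h => hw1 (conj_eq_one_iff.1 h)
    · intro h
      refine hw2 ?_
      have hz : (x.1.out : G) * z * (x.1.out : G)⁻¹ = z := by rw [mem_cH.1 hC.1, mul_inv_cancel_right]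
      exact mul_left_cancel (mul_right_cancel (h.trans hz.symm))⟩
  have hinj : Function.Injective F := by
    rintro ⟨q, w, hw⟩ ⟨r, v, hv⟩ h
    have h' : (q.out : G) * w * (q.out : G)⁻¹ = r.out * v * (r.out : G)⁻¹ := congrArg Subtype.val h
    have hm : (q.out : G)⁻¹ * r.out ∈ D.St := by
      have hC : (q.out : G)⁻¹ * r.out ∈ cC z P := mul_mem (inv_mem q.out.2) r.out.2
      refine ⟨hC, D.inter_conj hJ hC hw.1 ?_ (fun e => hw.2 (Or.inl e)) (fun e => hw.2 (Or.inr e))⟩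
      rw [show ((q.out : G)⁻¹ * r.out)⁻¹ * w * ((q.out : G)⁻¹ * r.out) =
        (r.out : G)⁻¹ * ((q.out : G) * w * (q.out : G)⁻¹) * r.out by group, h']
      simpa [mul_assoc] using hv.1
    have hqr : q = r := by
      rw [← q.out_eq', ← r.out_eq', QuotientGroup.eq]
      exact mem_subgroupOf.2 hm
    subst hqr
    exact Prod.ext rfl (Subtype.ext (mul_left_cancel (mul_right_cancel h')))
  have := Nat.card_le_card_of_injective F hinj
  rwa [Nat.card_prod, ← index_eq_card, Nat.card_coe_set_eq, Nat.card_coe_set_eq, hW, card_invSet_E hJ] at this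

theorem Dat.not_seven_eleven {q : ℕ} [Fact q.Prime] (hq : q = 7 ∨ q = 11) : ¬ q ∣ Nat.card D.St := by
  intro hd
  obtain ⟨⟨d, hdS⟩, hdo⟩ := exists_prime_orderOf_dvd_card' q hd
  rw [orderOf_mk] at hdo
  have hconj : ∀ s ∈ (D.Z : Set G), d * s * d⁻¹ ∈ (D.Z : Set G) := fun s hs =>
    (mem_normalizer_iff.1 hdS.2 s).1 hs
  have h := modEq_ncard_fixed (q := q) (hdo ▸ pow_orderOf_eq_one d) (D.Z : Set G) hconj
  have h8 : (D.Z : Set G).ncard = 8 := by rw [← Nat.card_coe_set_eq]; exact D.Z_card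
  set F := {s | s ∈ (D.Z : Set G) ∧ d * s = s * d}
  have hF8 : F.ncard ≤ 8 := h8 ▸ Set.ncard_le_ncard (fun s hs => hs.1)
  rw [h8] at h
  rcases hq with rfl | rfl
  · have hF2 : F.ncard ≤ 2 := by
      have hle : F ⊆ {1, z} := by
        rintro s ⟨hs, hds⟩
        have hm : s ∈ cE z ⊓ centralizer ({d} : Set G) :=
          mem_inf.2 ⟨D.Z_le_E hJ hs, mem_centralizer_singleton_iff.2 hds.symm⟩
        rw [E_inf_centralizer_seven hJ hdS.1 hdo] at hm
        exact (CfsgLib.Extra2.mem_zpowers_iff (z_sq hJ)).1 hm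
      exact (Set.ncard_le_ncard hle).trans_eq (Set.ncard_pair (z_ne_one hJ).symm)
    have hge : 2 ≤ F.ncard := by
      rw [← Set.ncard_pair (z_ne_one hJ).symm]
      refine Set.ncard_le_ncard ?_
      rintro s (rfl | rfl)
      · exact ⟨one_mem D.Z, by simp⟩
      · exact ⟨D.z_mem_Z hJ, mem_cH.1 hdS.1.1⟩
    unfold Nat.ModEq at h
    omega
  · have hF : F.ncard = 8 := by unfold Nat.ModEq at h; omega
    have hall : F = (D.Z : Set G) := Set.eq_of_subset_of_ncard_le (fun s hs => hs.1) (by rw [h8, hF])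
    obtain ⟨w, hw, hw1, hwz⟩ := D.exists_w hJ
    have hwF : w ∈ F := by rw [hall]; exact hw
    rcases involution_centralizer_eleven hJ hdS.1 hdo (D.Z_le_E hJ hw) hwF.2 (D.Z_sq w hw) with e | e
    · exact hw1 e
    · exact hwz e

/-- An abelian subgroup of order 27 of `C_H(P)` does not exist. -/
theorem not_comm_of_card_27 {R : Subgroup G} (hR : R ≤ cC z P) (hc : Nat.card R = 27)
    (hab : ∀ a ∈ R, ∀ b ∈ R, a * b = b * a) : False := by
  haveI : Fact (Nat.Prime 3) := ⟨Nat.prime_three⟩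
  have hab' : IsMulCommutative ↥(R.subgroupOf (cC z P)) :=
    ⟨⟨fun a b => Subtype.ext (Subtype.ext (hab _ a.2 _ b.2))⟩⟩
  obtain ⟨p, hp, hp1⟩ := Dat.exists_p hJ
  have hpC : (⟨p, P_le_C hJ hp⟩ : ↥(cC z P)) ∈ commutator ↥(cC z P) := by
    have h := P_le_commutator hJ hp
    rw [← map_subtype_commutator] at h
    obtain ⟨q, hq, e⟩ := mem_map.1 h
    exact (Subtype.ext e : q = ⟨p, P_le_C hJ hp⟩) ▸ hq
  refine hp1 ?_
  have := FixMod.eq_one_of_transfer (R.subgroupOf (cC z P)) hab' (u := ⟨p, P_le_C hJ hp⟩)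
    (fun g => Subtype.ext (K_central hJ (P_le_K hJ hp) g.2).symm) hpC (by
      have hidx := (R.subgroupOf (cC z P)).card_mul_index
      rw [Nat.card_congr (subgroupOfEquivOfLe hR).toEquiv, hc, card_C hJ] at hidx
      have hi : (R.subgroupOf (cC z P)).index = 98560 := by omega
      rw [hi, orderOf_mk]
      exact Nat.Coprime.coprime_dvd_left (orderOf_dvd_of_pow_eq_one (Dat.P_pow hJ hp)) (by norm_num))
  exact congrArg Subtype.val this

theorem Dat.not_twentyseven : ¬ 27 ∣ Nat.card D.St := by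
  intro hd
  haveI : Fact (Nat.Prime 3) := ⟨Nat.prime_three⟩
  obtain ⟨R0, hR0⟩ := Sylow.exists_subgroup_card_pow_prime 3 (n := 3) (show 3 ^ 3 ∣ Nat.card D.St from hd)
  set R := R0.map D.St.subtype with hRdef
  have hRle : R ≤ D.St := map_subtype_le _
  have hRc : Nat.card R = 27 := by
    rw [hRdef, card_map_of_injective D.St.subtype_injective, hR0]; norm_num
  have hRC : R ≤ cC z P := hRle.trans inf_le_left
  have hcen : ∀ p ∈ P, ∀ r ∈ R, p * r = r * p := fun p hp r hr =>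
    K_central hJ (P_le_K hJ hp) (hRC hr)
  have hnP : P ≤ normalizer (R : Set G) := le_normalizer_of_conj fun p hp r hr => by
    rwa [hcen p hp r hr, mul_inv_cancel_right]
  have hPR : P ≤ R := by
    have h := CfsgLib.Solvable.card_sup_mul_card_inf hnP
    have hd' : Nat.card ↥(P ⊔ R) ∣ 6 * 443520 :=
      card_C hJ ▸ card_dvd_of_le (sup_le (P_le_C hJ) hRC)
    have hi : Nat.card ↥(P ⊓ R) ∣ 3 := card_P hJ ▸ card_dvd_of_le inf_le_left
    rw [card_P hJ, hRc] at h
    rcases (Nat.dvd_prime Nat.prime_three).1 hi with h1 | h1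
    · rw [h1, mul_one] at h
      rw [h] at hd'
      norm_num at hd'
    · exact inf_eq_left.1 (eq_of_le_of_card_ge inf_le_left (by rw [card_P hJ, h1]))
  let θ : ↥R →* MulAut ↥D.Z := (D.Z).normalizerMonoidHom.comp (inclusion (hRle.trans inf_le_right))
  have hker : θ.ker = (centralizer (D.Z : Set G)).subgroupOf R := by
    ext r
    simp only [θ, ← MonoidHom.comap_ker, normalizerMonoidHom_ker, mem_comap, mem_subgroupOf, coe_inclusion]
  have hrange : Nat.card θ.range ∣ 3 := by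
    have h1 : Nat.card θ.range ∣ 27 := hRc ▸ card_range_dvd θ
    have h2 : Nat.card θ.range ∣ 168 := by
      rw [← card_mulAut D.Z_comm D.Z_sq D.Z_card]
      exact card_subgroup_dvd_card _
    exact (Nat.dvd_gcd h1 h2).trans (by norm_num)
  set A := R ⊓ centralizer (D.Z : Set G) with hA
  have hAc : Nat.card θ.ker = Nat.card A := by
    rw [hker, ← card_map_of_injective R.subtype_injective, subgroupOf_map_subtype, inf_comm]
  have hdec := θ.ker.card_mul_index
  rw [index_ker, hAc, hRc] at hdec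
  have hPA : P ⊓ A = ⊥ := by
    refine (eq_bot_iff_forall _).2 fun p hp => ?_
    by_contra hp1
    obtain ⟨w, hw, hw1, hwz⟩ := D.exists_w hJ
    have ho : orderOf p = 3 := orderOf_eq_prime (Dat.P_pow hJ hp.1) hp1
    rcases eq_one_or_z hJ hp.1 ho (D.Z_le_E hJ hw)
      (mem_centralizer_iff.1 (mem_inf.1 hp.2).2 w hw).symm with e | e
    · exact hw1 e
    · exact hwz e
  have hnA : P ≤ normalizer (A : Set G) := le_normalizer_of_conj fun p hp a ha => by
    rwa [hcen p hp a (mem_inf.1 ha).1, mul_inv_cancel_right]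
  have hPAc := CfsgLib.Solvable.card_sup_of_disjoint hnA hPA
  rw [card_P hJ] at hPAc
  have hle : Nat.card ↥(P ⊔ A) ≤ 27 := hRc ▸ card_le_of_le (sup_le hPR inf_le_left)
  have hA9 : Nat.card A = 9 := by
    rcases (Nat.dvd_prime Nat.prime_three).1 hrange with e | e <;> rw [e] at hdec <;> omega
  have htop : P ⊔ A = R := eq_of_le_of_card_ge (sup_le hPR inf_le_left) (by rw [hPAc, hRc, hA9])
  haveI hAab : IsMulCommutative A := IsPGroup.isMulCommutative_of_card_eq_prime_sq (p := 3) (by rw [hA9]; norm_num)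
  refine not_comm_of_card_27 hJ hRC hRc fun a ha b hb => ?_
  rw [← htop] at ha hb
  obtain ⟨p, hp, x, hx, rfl⟩ := (CfsgLib.Solvable.mem_sup_of_le_normalizer hnA).1 ha
  obtain ⟨q, hq, y, hy, rfl⟩ := (CfsgLib.Solvable.mem_sup_of_le_normalizer hnA).1 hb
  have h1 : Commute p (q * y) := hcen p hp _ (mul_mem (hPR hq) (mem_inf.1 hy).1)
  have h2 : Commute x q := (hcen q hq x (mem_inf.1 hx).1).symm
  have h3 : Commute x y := congrArg Subtype.val (hAab.is_comm.comm ⟨x, hx⟩ ⟨y, hy⟩)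
  exact (h1.mul_left (h2.mul_right h3)).eq

/-- The normaliser in M22 of the image of `⟨f⟩` is covered by the stabiliser of `Z`. -/
theorem Dat.normalizer_le_img :
    normalizer ((zpowers (quo hJ ⟨D.f, D.f_mem⟩) : Subgroup M) : Set M) ≤ img hJ D.St := by
  intro d hd
  obtain ⟨⟨c, hc⟩, rfl⟩ := quo_surjective hJ d
  obtain ⟨i, hi⟩ := (mem_normalizer_iff.1 hd _).1 (mem_zpowers (quo hJ ⟨D.f, D.f_mem⟩))
  have hi' : quo hJ ⟨D.f, D.f_mem⟩ ^ i = quo hJ ⟨c * D.f * c⁻¹, mul_mem (mul_mem hc D.f_mem) (inv_mem hc)⟩ := by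
    refine (show quo hJ ⟨D.f, D.f_mem⟩ ^ i = _ from hi).trans ?_
    rw [← map_inv, ← map_mul, ← map_mul]
    exact congrArg _ (Subtype.ext rfl)
  have h5 : (D.f ^ i) ^ 5 = 1 := by
    rw [← zpow_natCast, ← zpow_mul, mul_comm, zpow_mul, zpow_natCast, D.f_pow, one_zpow]
  have heq : D.f ^ i = c * D.f * c⁻¹ := by
    refine five_unique hJ (zpow_mem D.f_mem i) (mul_mem (mul_mem hc D.f_mem) (inv_mem hc)) h5
      (by rw [conj_pow, D.f_pow, mul_one, mul_inv_cancel]) ?_
    rw [← hi', ← map_zpow]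
    exact congrArg _ (Subtype.ext (by simp))
  refine (mem_img hJ).2 ⟨c, hc, ⟨hc, D.normalizer_f_le ?_⟩, rfl⟩
  refine mem_normalizer_iff_map_conj_eq.2 (eq_of_le_of_card_ge ?_ ?_)
  · rw [MonoidHom.map_zpowers]
    refine zpowers_le.2 ⟨i, ?_⟩
    exact heq
  · rw [card_map_of_injective (MulAut.conj c).injective]

theorem Dat.card_img_St : Nat.card (img hJ D.St) = 1920 := by
  haveI : Fact (Nat.Prime 5) := ⟨by norm_num⟩
  set A := img hJ D.St with hA
  set s := quo hJ ⟨D.f, D.f_mem⟩ with hs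
  have hso : orderOf s = 5 := D.f_quo hJ
  have hN := CfsgLib.J4M22.card_normalizer_five hso
  have hle := D.normalizer_le_img hJ
  have hsA : zpowers s ≤ A := le_normalizer.trans hle
  have h20 : 20 ∣ Nat.card A := hN ▸ card_dvd_of_le hle
  have hdvd : Nat.card A ∣ 443520 := CfsgLib.Golay.Cert.card_m22 ▸ card_subgroup_dvd_card A
  have hcardSt := D.card_St hJ
  rw [← hA] at hcardSt
  haveI : Fact (Nat.Prime 7) := ⟨by norm_num⟩
  haveI : Fact (Nat.Prime 11) := ⟨by norm_num⟩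
  have h7 : ¬ 7 ∣ Nat.card A := fun h => D.not_seven_eleven hJ (q := 7) (Or.inl rfl) (hcardSt ▸ h.mul_left 6)
  have h11 : ¬ 11 ∣ Nat.card A := fun h => D.not_seven_eleven hJ (q := 11) (Or.inr rfl) (hcardSt ▸ h.mul_left 6)
  have h9 : ¬ 9 ∣ Nat.card A := fun h => D.not_twentyseven hJ (hcardSt ▸ by
    obtain ⟨k, hk⟩ := h
    exact ⟨2 * k, by rw [hk]; ring⟩)
  obtain ⟨n, hn⟩ := h20
  have hidx := (D.St.subgroupOf (cC z P)).card_mul_index
  rw [Nat.card_congr (subgroupOfEquivOfLe (inf_le_left : D.St ≤ cC z P)).toEquiv, card_C hJ, hcardSt, hn] at hidx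
  have hob := D.orbit_bound hJ
  -- the Sylow count
  have h25 : ¬ 25 ∣ Nat.card A := fun h => absurd (h.trans hdvd) (by norm_num)
  have hfac : (Nat.card ↥A).factorization 5 = 1 := by
    refine le_antisymm ?_ ?_
    · by_contra h
      push Not at h
      exact h25 (show 5 ^ 2 ∣ _ from (pow_dvd_pow 5 h).trans (Nat.ordProj_dvd _ _))
    · exact (Nat.Prime.dvd_iff_one_le_factorization Fact.out Nat.card_pos.ne').1
        (hn ▸ Dvd.intro (4 * n) (by ring))
  let S : Sylow 5 ↥A := Sylow.ofCard ((zpowers s).subgroupOf A)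
    (by rw [Nat.card_congr (subgroupOfEquivOfLe hsA).toEquiv, Nat.card_zpowers, hso, hfac, pow_one])
  have hcard := card_sylow_modEq_one (p := 5) (G := ↥A)
  rw [Sylow.card_eq_index_normalizer S] at hcard
  have hSc : Nat.card (normalizer ((S : Subgroup ↥A) : Set ↥A)) = 20 := by
    rw [show (S : Subgroup ↥A) = (zpowers s).subgroupOf A from rfl, ← subgroupOf_normalizer_eq hsA,
      Nat.card_congr (subgroupOfEquivOfLe hle).toEquiv, hN]
  have hSi := (normalizer ((S : Subgroup ↥A) : Set ↥A)).card_mul_index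
  rw [hSc, hn] at hSi
  have hi : (normalizer ((S : Subgroup ↥A) : Set ↥A)).index = n := by omega
  replace hcard : n ≡ 1 [MOD 5] := hi ▸ hcard
  have hn22176 : n ∣ 22176 := by
    obtain ⟨k, hk⟩ := hdvd
    exact ⟨k, by rw [hn, mul_assoc] at hk; omega⟩
  have hn7 : ¬ 7 ∣ n := fun h => h7 (hn ▸ h.mul_left 20)
  have hn11 : ¬ 11 ∣ n := fun h => h11 (hn ▸ h.mul_left 20)
  have hn9 : ¬ 9 ∣ n := fun h => h9 (hn ▸ h.mul_left 20)
  have hn32 : 32 ≤ n := by
    by_contra hlt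
    push Not at hlt
    have : n * (D.St.subgroupOf (cC z P)).index * 120 = 2661120 := by
      rw [← show (6 : ℕ) * 443520 = 2661120 by norm_num, ← hidx]; ring
    nlinarith
  have key : ∀ n ∈ Nat.divisors 22176, ¬ 7 ∣ n → ¬ 11 ∣ n → ¬ 9 ∣ n → 32 ≤ n → n % 5 = 1 → n = 96 := by
    decide +kernel
  unfold Nat.ModEq at hcard
  rw [hn, key n (Nat.mem_divisors.2 ⟨hn22176, by norm_num⟩) hn7 hn11 hn9 hn32 hcard]

theorem Dat.exists_fixer {s : G} (hs : s ∈ D.St) : ∃ p ∈ P, p * s ∈ D.St1 := by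
  classical
  obtain ⟨u, hu, hu1, huz⟩ := D.exists_w hJ
  obtain ⟨p₀, hp₀, hp₀1⟩ := Dat.exists_p hJ
  have hzz : zpowers z ≤ D.Z := zpowers_le.2 (D.z_mem_Z hJ)
  have hu' : u ∉ zpowers z := fun h => ((CfsgLib.Extra2.mem_zpowers_iff (z_sq hJ)).1 h).elim hu1 huz
  have hcz : ∀ p ∈ P, p * z * p⁻¹ = z := fun p hp => by
    rw [mem_cH.1 (P_le_H hJ hp), mul_inv_cancel_right]
  -- the six elements of `Z` outside `⟨z⟩`
  let W : Set G := (D.Z : Set G) \ (zpowers z : Set G)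
  have hW : W.ncard = 6 := by
    show ((D.Z : Set G) \ (zpowers z : Set G)).ncard = 6
    rw [Set.ncard_diff hzz, ← Nat.card_coe_set_eq, ← Nat.card_coe_set_eq]
    show Nat.card D.Z - Nat.card (zpowers z) = 6
    rw [D.Z_card, card_zpowers_z hJ]
  let F : ↥P × ↥(zpowers z) → W := fun x => ⟨(x.1 : G) * u * (x.1 : G)⁻¹ * x.2,
    mul_mem ((mem_normalizer_iff.1 (D.P_le_normalizer hJ x.1.2) u).1 hu) (hzz x.2.2), fun h => hu' (by
      have h1 : (x.1 : G) * u * (x.1 : G)⁻¹ ∈ zpowers z := (mul_mem_cancel_right x.2.2).1 h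
      exact (mem_normalizer_iff.1 (H_le_normalizer_z (P_le_H hJ x.1.2)) u).2 h1)⟩
  have hinj : Function.Injective F := by
    rintro ⟨⟨p, hp⟩, ⟨a, ha⟩⟩ ⟨⟨q, hq⟩, ⟨b, hb⟩⟩ h
    have h' : p * u * p⁻¹ * a = q * u * q⁻¹ * b := congrArg Subtype.val h
    have hpq : p = q := by
      by_contra hne
      set t := q⁻¹ * p with ht
      have htP : t ∈ P := mul_mem (inv_mem hq) hp
      have ht1 : t ≠ 1 := fun e => hne (inv_mul_eq_one.1 e).symm
      have h1 : t * u * t⁻¹ * u⁻¹ ∈ zpowers z := by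
        have e : t * u * t⁻¹ * u⁻¹ = q⁻¹ * ((p * u * p⁻¹) * (q * u * q⁻¹)⁻¹) * q⁻¹⁻¹ := by rw [ht]; group
        rw [e]
        refine (mem_normalizer_iff.1 (H_le_normalizer_z (inv_mem (P_le_H hJ hq))) _).1 ?_
        have e2 : p * u * p⁻¹ = q * u * q⁻¹ * (b * a⁻¹) := by
          rw [← mul_assoc, ← h', mul_inv_cancel_right]
        rw [e2]
        exact (mem_normalizer_iff.1 (H_le_normalizer_z (mul_mem (mul_mem (P_le_H hJ hq)
          (D.Z_le_H hJ hu)) (inv_mem (P_le_H hJ hq)))) _).1 (mul_mem hb (inv_mem ha))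
      have hzt : zpowers t = P := eq_of_le_of_card_ge (zpowers_le.2 htP) (by
        haveI : Fact (Nat.Prime 3) := ⟨Nat.prime_three⟩
        rw [Nat.card_zpowers, orderOf_eq_prime (Dat.P_pow hJ htP) ht1, card_P hJ])
      refine hu' (mem_zpowers_of_P_fixed hJ (D.Z_le_E hJ hu) ?_)
      intro r hr
      have hr' : r ∈ zpowers t := hzt.symm ▸ hr
      obtain ⟨n, rfl⟩ : ∃ n : ℕ, t ^ n = r := mem_powers_iff_mem_zpowers.2 hr'
      clear hr hr'
      induction n with
      | zero => simp [one_mem]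
      | succ n ih =>
        rw [show t ^ (n + 1) * u * (t ^ (n + 1))⁻¹ * u⁻¹ =
          t * (t ^ n * u * (t ^ n)⁻¹ * u⁻¹) * t⁻¹ * (t * u * t⁻¹ * u⁻¹) by rw [pow_succ']; group]
        exact mul_mem ((mem_normalizer_iff.1 (H_le_normalizer_z (P_le_H hJ htP)) _).1 ih) h1
    subst hpq
    exact Prod.ext rfl (Subtype.ext (mul_left_cancel h'))
  have hbij : Function.Bijective F := (Nat.bijective_iff_injective_and_card F).2 ⟨hinj, by
    rw [Nat.card_prod, card_P hJ, card_zpowers_z hJ, Nat.card_coe_set_eq, hW]⟩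
  obtain ⟨⟨⟨p, hp⟩, ⟨a, ha⟩⟩, hpa⟩ := hbij.2 ⟨s * u * s⁻¹, (mem_normalizer_iff.1 hs.2 u).1 hu, fun h =>
    hu' ((mem_normalizer_iff.1 (H_le_normalizer_z hs.1.1) u).2 h)⟩
  have hpa' : p * u * p⁻¹ * a = s * u * s⁻¹ := congrArg Subtype.val hpa
  have hmem : p⁻¹ * s ∈ D.St := mul_mem (D.K_le_St hJ (P_le_K hJ (inv_mem hp))) hs
  refine ⟨p⁻¹, inv_mem hp, hmem, mem_fixer.2 ⟨hmem.2, H_le_normalizer_z hmem.1.1, ?_⟩⟩
  let T := fixedSub D.Z (zpowers z) ((D.Z_le_H hJ).trans H_le_normalizer_z) {p⁻¹ * s}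
  have huT : u ∈ T := ⟨hu, by
    rintro _ rfl
    rw [show p⁻¹ * s * u * (p⁻¹ * s)⁻¹ * u⁻¹ = p⁻¹ * (s * u * s⁻¹) * p * u⁻¹ by group, ← hpa']
    have hac : p * a = a * p := K_central hJ (P_le_K hJ hp) (K_le_C hJ (zpowers_le_K hJ ha))
    rw [show p⁻¹ * (p * u * p⁻¹ * a) * p * u⁻¹ = u * (p⁻¹ * (a * p)) * u⁻¹ by group, ← hac, inv_mul_cancel_left]
    exact (mem_normalizer_iff.1 (H_le_normalizer_z (D.Z_le_H hJ hu)) a).1 ha⟩
  have hzT : z ∈ T := ⟨D.z_mem_Z hJ, by
    rintro _ rfl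
    rw [mem_cH.1 hmem.1.1, mul_inv_cancel_right, mul_inv_cancel]
    exact one_mem _⟩
  have hTP : P ≤ normalizer (T : Set G) := le_normalizer_of_conj fun q hq x hx => by
    refine conj_fixedSub (D.P_le_normalizer hJ hq) (H_le_normalizer_z (P_le_H hJ hq)) ?_ hx
    rintro _ rfl
    have hc : (p⁻¹ * s) * q = q * (p⁻¹ * s) := (K_central hJ (P_le_K hJ hq) hmem.1).symm
    rw [mul_assoc, hc, inv_mul_cancel_left]
    exact Set.mem_singleton _
  have h3 := card_mod_three hJ ((fixedSub_le).trans (D.Z_le_E hJ)) hzT hTP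
  have hdvd : Nat.card T ∣ 2 ^ 3 := by
    rw [show (2 : ℕ) ^ 3 = 8 by norm_num, ← D.Z_card]
    exact card_dvd_of_le fixedSub_le
  have hbig : 2 < Nat.card T := by
    have hsub : ({1, z, u} : Set G) ⊆ (T : Set G) := by
      rintro a (rfl | rfl | rfl) <;> first | exact one_mem T | exact hzT | exact huT
    have h := Set.ncard_le_ncard hsub
    rw [Set.ncard_insert_of_notMem (by
        rintro (h' | h')
        · exact z_ne_one hJ h'.symm
        · exact hu1 h'.symm), Set.ncard_pair (Ne.symm huz), ← Nat.card_coe_set_eq] at h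
    have h' : Nat.card ↥(T : Set G) = Nat.card T := rfl
    omega
  have h8 : Nat.card T = 8 := by
    obtain ⟨k, hk, hk'⟩ := (Nat.dvd_prime_pow Nat.prime_two).1 hdvd
    rw [hk'] at h3 hbig ⊢
    interval_cases k <;> simp_all
  have hTZ : T = D.Z := eq_of_le_of_card_ge fixedSub_le (by rw [h8, D.Z_card])
  intro e he
  exact ((hTZ ▸ he : e ∈ T)).2 _ rfl

end CfsgLib.J4Pentad
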