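/-
Janko-four type, the pentad 2-local subgroup: the centraliser and the normaliser of `Z`.
-/
import Cfsg.Agent.J4Local.Pentad.Stab

set_option autoImplicit false
set_option linter.style.haveILetI false
set_option linter.unusedSectionVars false

namespace CfsgLib.J4Pentad

open Subgroup CfsgLib.J4Local CfsgLib.J4Local.M22Elem CfsgLib.J4Local.FixMod

variable {G : Type*} [Group G] [Finite G] {z : G} {P : Subgroup G} (D : Dat z P)

/-- The centraliser of `Z`. -/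
abbrev Dat.CZ : Subgroup G := centralizer (D.Z : Set G)

/-- The centraliser of `Z` in `E`. -/
abbrev Dat.E0 : Subgroup G := cE z ⊓ D.CZ

/-- The normaliser of `Z`. -/
abbrev Dat.Mn : Subgroup G := normalizer (D.Z : Set G)

theorem Dat.CZ_le_Mn : D.CZ ≤ D.Mn := centralizer_le_normalizer _

theorem Dat.J_inter_CZ (hJ : Cfsg.IsOfJankoFourTypeWith z P) : D.J ⊓ D.CZ = D.Z := by
  refine le_antisymm (fun x hx => D.mem_Z_of_comm hJ (mem_inf.1 hx).1 fun a ha =>
    (mem_centralizer_iff.1 (mem_inf.1 hx).2 a ha).symm) (le_inf D.Z_le fun a ha => ?_)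
  exact mem_centralizer_iff.2 fun b hb => D.Z_comm b hb a ha

theorem Dat.card_range_J (hJ : Cfsg.IsOfJankoFourTypeWith z P) :
    Nat.card (D.Z.normalizerMonoidHom.comp (inclusion D.J_le_normalizer)).range = 168 := by
  set θ := D.Z.normalizerMonoidHom.comp (inclusion D.J_le_normalizer) with hθ
  have hk : θ.ker = D.Z.subgroupOf D.J := by
    rw [hθ, ← MonoidHom.comap_ker, normalizerMonoidHom_ker]
    ext j
    rw [mem_comap, mem_subgroupOf, coe_inclusion, mem_subgroupOf]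
    conv_rhs => rw [← D.J_inter_CZ hJ]
    exact ⟨fun h => mem_inf.2 ⟨j.2, h⟩, fun h => (mem_inf.1 h).2⟩
  have h := θ.ker.card_mul_index
  rw [index_ker, hk, Nat.card_congr (subgroupOfEquivOfLe D.Z_le).toEquiv, D.Z_card, D.card_J] at h
  omega

theorem Dat.normalizerHom_surjective (hJ : Cfsg.IsOfJankoFourTypeWith z P) :
    Function.Surjective D.Z.normalizerMonoidHom := by
  rw [← MonoidHom.range_eq_top]
  refine eq_top_of_le_card _ ?_
  rw [card_mulAut D.Z_comm D.Z_sq D.Z_card, ← D.card_range_J hJ]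
  refine card_le_of_le ?_
  rintro _ ⟨j, rfl⟩
  exact ⟨_, rfl⟩

/-- The map of the normaliser of `Z` onto SL(3,2), with kernel the centraliser. -/
theorem Dat.exists_psi (hJ : Cfsg.IsOfJankoFourTypeWith z P) :
    ∃ ψ : ↥D.Mn →* SL32, Function.Surjective ψ ∧ ψ.ker = D.CZ.subgroupOf D.Mn ∧
      Function.Surjective (ψ.comp (inclusion D.J_le_normalizer)) := by
  obtain ⟨e⟩ := exists_mulAut_subgroup D.Z_comm D.Z_sq D.Z_card
  refine ⟨e.toMonoidHom.comp D.Z.normalizerMonoidHom, e.surjective.comp (D.normalizerHom_surjective hJ), ?_, ?_⟩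
  · rw [← normalizerMonoidHom_ker]
    ext n
    exact MulEquiv.map_eq_one_iff e
  · have htop : (D.Z.normalizerMonoidHom.comp (inclusion D.J_le_normalizer)).range = ⊤ :=
      eq_top_of_le_card _ (by rw [card_mulAut D.Z_comm D.Z_sq D.Z_card, D.card_range_J hJ])
    exact e.surjective.comp (MonoidHom.range_eq_top.1 htop)

variable (hJ : Cfsg.IsOfJankoFourTypeWith z P)

include hJ

theorem Dat.Z_le_St1 : zpowers z ≤ D.St1 := by
  refine zpowers_le.2 (mem_inf.2 ⟨D.K_le_St hJ (zpowers_le_K hJ (mem_zpowers z)),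
    mem_fixer.2 ⟨le_normalizer (D.z_mem_Z hJ), le_normalizer (mem_zpowers z), fun e he => ?_⟩⟩)
  rw [← mem_cH.1 (D.Z_le_H hJ he), mul_inv_cancel_right, mul_inv_cancel]
  exact one_mem _

theorem Dat.P_inter_St1 : P ⊓ D.St1 = ⊥ := by
  refine (eq_bot_iff_forall _).2 fun p hp => ?_
  by_contra hp1
  obtain ⟨u, hu, hu1, huz⟩ := D.exists_w hJ
  obtain ⟨hpP, hpS⟩ := mem_inf.1 hp
  have hfix := (mem_fixer.1 (mem_inf.1 hpS).2).2.2 u hu
  have hzt : zpowers p = P := eq_of_le_of_card_ge (zpowers_le.2 hpP) (by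
    haveI : Fact (Nat.Prime 3) := ⟨Nat.prime_three⟩
    rw [Nat.card_zpowers, orderOf_eq_prime (Dat.P_pow hJ hpP) hp1, card_P hJ])
  have hmem : u ∈ zpowers z := by
    refine mem_zpowers_of_P_fixed hJ (D.Z_le_E hJ hu) fun r hr => ?_
    have hr' : r ∈ zpowers p := hzt.symm ▸ hr
    have : r ∈ fixer D.Z (zpowers z) := zpowers_le.2 (mem_inf.1 hpS).2 hr'
    exact (mem_fixer.1 this).2.2 u hu
  exact ((CfsgLib.Extra2.mem_zpowers_iff (z_sq hJ)).1 hmem).elim hu1 huz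

theorem Dat.card_St1 : Nat.card D.St1 = 3840 := by
  have hn : P ≤ normalizer (D.St1 : Set G) := le_normalizer_of_conj fun p hp s hs => by
    rwa [K_central hJ (P_le_K hJ hp) (mem_inf.1 (mem_inf.1 hs).1).1, mul_inv_cancel_right]
  have htop : P ⊔ D.St1 = D.St := by
    refine le_antisymm (sup_le ((P_le_K hJ).trans (D.K_le_St hJ)) inf_le_left) fun s hs => ?_
    obtain ⟨p, hp, hps⟩ := D.exists_fixer hJ hs
    rw [show s = p⁻¹ * (p * s) by group]
    exact mul_mem (mem_sup_left (inv_mem hp)) (mem_sup_right hps)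
  have h := CfsgLib.Solvable.card_sup_of_disjoint hn (D.P_inter_St1 hJ)
  rw [htop, card_P hJ, D.card_St hJ, D.card_img_St hJ] at h
  omega

theorem Dat.CZ_le_H : D.CZ ≤ cH z := fun x hx =>
  mem_cH.2 (mem_centralizer_iff.1 hx z (D.z_mem_Z hJ)).symm

theorem Dat.E_le_Mn : cE z ≤ D.Mn := le_normalizer_of_z_mem hJ (D.Z_le_E hJ) (D.z_mem_Z hJ)

/-- Elements of `C(Z)` split along `E`. -/
theorem Dat.CZ_decomp {h : G} (hh : h ∈ D.CZ) : ∃ a ∈ D.St1, ∃ e ∈ cE z, a * e = h := by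
  have hH := D.CZ_le_H hJ hh
  rw [H_eq hJ] at hH
  obtain ⟨a, ha, e, he, rfl⟩ :=
    (CfsgLib.Solvable.mem_sup_of_le_normalizer (inf_le_left.trans H_le_normalizer_E)).1 hH
  have haN : a ∈ D.Mn := by
    rw [show a = a * e * e⁻¹ by group]
    exact mul_mem (D.CZ_le_Mn hh) (inv_mem (D.E_le_Mn hJ he))
  have hfix : ∀ w ∈ D.Z, a * w * a⁻¹ * w⁻¹ ∈ zpowers z := by
    intro w hw
    have hw' : e⁻¹ * w * e ∈ D.Z := (mem_normalizer_iff''.1 (D.E_le_Mn hJ he) w).1 hw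
    have h1 : a * e * (e⁻¹ * w * e) * (a * e)⁻¹ = e⁻¹ * w * e := by
      rw [← mem_centralizer_iff.1 hh _ hw', mul_inv_cancel_right]
    rw [show a * w * a⁻¹ * w⁻¹ = a * e * (e⁻¹ * w * e) * (a * e)⁻¹ * w⁻¹ by group, h1]
    rcases CfsgLib.Extra2.conj_eq (gen_E hJ) (inv_mem he) (D.Z_le_E hJ hw) with h2 | h2
    · rw [inv_inv] at h2; rw [h2, mul_inv_cancel]; exact one_mem _
    · rw [inv_inv] at h2; rw [h2, mul_inv_cancel_right]; exact mem_zpowers z
  refine ⟨a, mem_inf.2 ⟨mem_inf.2 ⟨mem_inf.2 ⟨ha.1, ?_⟩, haN⟩,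
    mem_fixer.2 ⟨haN, H_le_normalizer_z ha.1, hfix⟩⟩, e, he, rfl⟩
  -- `a` centralises `P`
  refine mem_centralizer_iff.2 fun p hp => ?_
  by_contra hne
  have h1 : a * p * a⁻¹ ∈ P := (mem_normalizer_iff.1 ha.2 p).1 hp
  set q := a * p * a⁻¹ * p⁻¹ with hq
  have hqP : q ∈ P := mul_mem h1 (inv_mem hp)
  have hq1 : q ≠ 1 := fun h => hne (mul_inv_eq_iff_eq_mul.1 (mul_inv_eq_one.1 h)).symm
  have hqfix : q ∈ fixer D.Z (zpowers z) := by
    refine mem_fixer.2 ⟨D.P_le_normalizer hJ hqP, H_le_normalizer_z (P_le_H hJ hqP), fun w hw => ?_⟩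
    have haf : a ∈ fixer D.Z (zpowers z) := mem_fixer.2 ⟨haN, H_le_normalizer_z ha.1, hfix⟩
    have : p * a⁻¹ * p⁻¹ ∈ fixer D.Z (zpowers z) :=
      conj_fixer (D.P_le_normalizer hJ hp) (H_le_normalizer_z (P_le_H hJ hp)) (inv_mem haf)
    have hqf : q ∈ fixer D.Z (zpowers z) := by
      rw [show q = a * (p * a⁻¹ * p⁻¹) by rw [hq]; group]
      exact mul_mem haf this
    exact (mem_fixer.1 hqf).2.2 w hw
  have hqC : q ∈ cC z P := P_le_C hJ hqP
  have : q ∈ P ⊓ D.St1 :=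
    mem_inf.2 ⟨hqP, mem_inf.2 ⟨⟨hqC, D.P_le_normalizer hJ hqP⟩, hqfix⟩⟩
  rw [D.P_inter_St1 hJ] at this
  exact hq1 (mem_bot.1 this)

theorem Dat.CZ_le_cCE : D.CZ ≤ cCE z P := fun h hh => by
  obtain ⟨a, ha, e, he, rfl⟩ := D.CZ_decomp hJ hh
  exact mul_mem (mem_sup_left (mem_inf.1 (mem_inf.1 ha).1).1) (mem_sup_right he)

/-- The map of `C(Z)` to M22. -/
noncomputable def Dat.θ : ↥D.CZ →* M := (qE hJ).comp (inclusion (D.CZ_le_cCE hJ))

theorem Dat.θ_eq {h : ↥D.CZ} {a e : G} (ha : a ∈ cC z P) (he : e ∈ cE z) (hh : a * e = h) :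
    D.θ hJ h = quo hJ ⟨a, ha⟩ := qE_eq hJ ha he hh

theorem Dat.θ_ker : (D.θ hJ).ker = D.E0.subgroupOf D.CZ := by
  ext ⟨h, hh⟩
  rw [MonoidHom.mem_ker, mem_subgroupOf]
  constructor
  · intro h1
    obtain ⟨p, hp, e, he, hpe⟩ := qE_eq_one hJ (x := inclusion (D.CZ_le_cCE hJ) ⟨h, hh⟩) h1
    obtain ⟨a, ha, d, hd, had⟩ := D.CZ_decomp hJ hh
    have haC := (mem_inf.1 (mem_inf.1 ha).1).1
    have hpe' : p * e = h := hpe
    have hm : a⁻¹ * p ∈ zpowers z := by
      rw [← E_inf_C hJ]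
      refine mem_inf.2 ⟨?_, mul_mem (inv_mem haC) (P_le_C hJ hp)⟩
      have : a⁻¹ * p = d * e⁻¹ := by
        rw [inv_mul_eq_iff_eq_mul, ← mul_assoc, had, ← hpe', mul_inv_cancel_right]
      rw [this]
      exact mul_mem hd (inv_mem he)
    have hp1 : p ∈ P ⊓ D.St1 := mem_inf.2 ⟨hp, by
      rw [show p = a * (a⁻¹ * p) by group]
      exact mul_mem ha (D.Z_le_St1 hJ hm)⟩
    rw [D.P_inter_St1 hJ] at hp1
    refine mem_inf.2 ⟨?_, hh⟩
    show h ∈ cE z
    rw [← hpe', mem_bot.1 hp1, one_mul]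
    exact he
  · intro h1
    exact qE_one_of_PE hJ (one_mem P) (mem_inf.1 h1).1 (one_mul _)

theorem Dat.card_E0 : Nat.card D.E0 = 2 ^ 11 := by
  have h := CfsgLib.Extra2.card_mul_card_centralizer (gen_E hJ) (D.z_mem_Z hJ) (D.Z_le_E hJ)
  rw [D.Z_card, card_E hJ] at h
  change 8 * Nat.card D.E0 = _ at h
  omega

/-- Any pattern of translations by `z` on `Z` is induced by `E`. -/
theorem Dat.exists_E_mul {a : G} (ha : a ∈ D.St1) : ∃ e ∈ cE z, a * e ∈ D.CZ := by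
  classical
  obtain ⟨haS, haf⟩ := mem_inf.1 ha
  have haN : a ∈ D.Mn := haS.2
  have haH : a ∈ cH z := haS.1.1
  obtain ⟨u, hu, hu1, huz⟩ := D.exists_w hJ
  have hu' : u ∉ zpowers z := fun h => ((CfsgLib.Extra2.mem_zpowers_iff (z_sq hJ)).1 h).elim hu1 huz
  -- a second element
  obtain ⟨v, hv, hv'⟩ : ∃ v ∈ D.Z, v ∉ zpowers z ⊔ zpowers u := by
    by_contra hno
    push Not at hno
    have hc := card_le_of_le (hno : D.Z ≤ _)
    have hn : zpowers u ≤ normalizer ((zpowers z : Subgroup G) : Set G) :=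
      zpowers_le.2 (H_le_normalizer_z (D.Z_le_H hJ hu))
    have hd := CfsgLib.Solvable.card_sup_dvd hn
    rw [sup_comm, card_zpowers_z hJ, Nat.card_zpowers] at hd
    have ho : orderOf u ∣ 2 := orderOf_dvd_of_pow_eq_one (by rw [pow_two, D.Z_sq u hu])
    have h4 := Nat.le_of_dvd (by norm_num) (hd.trans (Nat.mul_dvd_mul ho dvd_rfl))
    rw [D.Z_card] at hc
    omega
  have hgen : ∀ x : G, x * z = z * x → x * u = u * x → x * v = v * x → x ∈ D.CZ := by
    intro x h1 h2 h3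
    have hle : zpowers z ⊔ zpowers u ⊔ zpowers v ≤ centralizer ({x} : Set G) := by
      refine sup_le (sup_le ?_ ?_) ?_ <;> refine zpowers_le.2 (mem_centralizer_singleton_iff.2 ?_) <;>
        first | exact h1.symm | exact h2.symm | exact h3.symm
    have hS : zpowers z ⊔ zpowers u ⊔ zpowers v = D.Z := by
      set S := zpowers z ⊔ zpowers u ⊔ zpowers v with hS
      have hSZ : S ≤ D.Z := sup_le (sup_le (zpowers_le.2 (D.z_mem_Z hJ)) (zpowers_le.2 hu)) (zpowers_le.2 hv)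
      refine eq_of_le_of_card_ge hSZ ?_
      rw [D.Z_card]
      have hd : Nat.card S ∣ 2 ^ 3 := by
        rw [show (2 : ℕ) ^ 3 = 8 by norm_num, ← D.Z_card]; exact card_dvd_of_le hSZ
      have h1' : zpowers z ⊔ zpowers u < S := lt_of_le_of_ne le_sup_left fun e =>
        hv' (e ▸ mem_sup_right (mem_zpowers v))
      have h2' : zpowers z < zpowers z ⊔ zpowers u := lt_of_le_of_ne le_sup_left fun e =>
        hu' (e ▸ mem_sup_right (mem_zpowers u))
      have l1 := CfsgLib.Solvable.card_lt_of_lt h1'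
      have l2 := CfsgLib.Solvable.card_lt_of_lt h2'
      rw [card_zpowers_z hJ] at l2
      obtain ⟨k, hk, hk'⟩ := (Nat.dvd_prime_pow Nat.prime_two).1 hd
      have l3 := two_dvd_of_z_mem hJ (mem_sup_left (mem_zpowers z) : z ∈ zpowers z ⊔ zpowers u)
      rw [hk'] at l1 ⊢
      interval_cases k <;> (norm_num at l1 l2 ⊢; try omega)
    refine mem_centralizer_iff.2 fun w hw => ?_
    exact mem_centralizer_singleton_iff.1 (hle (hS.ge hw))
  let X : G → Set G := fun w => {w, w * z}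
  have hX : ∀ w ∈ D.Z, ∀ e ∈ cE z, e * w * e⁻¹ ∈ X w := fun w hw e he => by
    rcases CfsgLib.Extra2.conj_eq (gen_E hJ) he (D.Z_le_E hJ hw) with h | h
    · exact Or.inl h
    · right
      rw [h]
      exact (mem_cH.1 (D.Z_le_H hJ hw)).symm
  let E' := D.E0.subgroupOf (cE z)
  let F : ↥(cE z) ⧸ E' → ↥(X u) × ↥(X v) := fun q =>
    (⟨(q.out : G) * u * (q.out : G)⁻¹, hX u hu _ q.out.2⟩, ⟨(q.out : G) * v * (q.out : G)⁻¹, hX v hv _ q.out.2⟩)
  have hinj : Function.Injective F := by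
    intro q r h
    have h1 : (q.out : G) * u * (q.out : G)⁻¹ = r.out * u * (r.out : G)⁻¹ := congrArg Subtype.val (Prod.ext_iff.1 h).1
    have h2 : (q.out : G) * v * (q.out : G)⁻¹ = r.out * v * (r.out : G)⁻¹ := congrArg Subtype.val (Prod.ext_iff.1 h).2
    rw [← q.out_eq', ← r.out_eq', QuotientGroup.eq]
    refine mem_subgroupOf.2 (mem_inf.2 ⟨mul_mem (inv_mem q.out.2) r.out.2, ?_⟩)
    have hmem : (q.out : G)⁻¹ * r.out ∈ cE z := mul_mem (inv_mem q.out.2) r.out.2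
    refine hgen _ (mem_cH.1 (E_le_H hmem)) ?_ ?_
    · calc (q.out : G)⁻¹ * r.out * u = (q.out : G)⁻¹ * (r.out * u * (r.out : G)⁻¹) * r.out := by group
        _ = u * ((q.out : G)⁻¹ * r.out) := by rw [← h1]; group
    · calc (q.out : G)⁻¹ * r.out * v = (q.out : G)⁻¹ * (r.out * v * (r.out : G)⁻¹) * r.out := by group
        _ = v * ((q.out : G)⁻¹ * r.out) := by rw [← h2]; group
  have hcardX : ∀ w, Nat.card ↥(X w) ≤ 2 := fun w => by
    rw [Nat.card_coe_set_eq]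
    exact (Set.ncard_insert_le _ _).trans (by rw [Set.ncard_singleton])
  have hidx : Nat.card (↥(cE z) ⧸ E') = 4 := by
    have h := E'.card_mul_index
    rw [Nat.card_congr (subgroupOfEquivOfLe (inf_le_left : D.E0 ≤ cE z)).toEquiv, D.card_E0 hJ, card_E hJ] at h
    rw [← index_eq_card]
    omega
  have hle : Nat.card (↥(X u) × ↥(X v)) ≤ Nat.card (↥(cE z) ⧸ E') := by
    rw [hidx, Nat.card_prod]
    exact Nat.mul_le_mul (hcardX u) (hcardX v)
  have hbij : Function.Bijective F :=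
    (Nat.bijective_iff_injective_and_card F).2 ⟨hinj, le_antisymm (Nat.card_le_card_of_injective F hinj) hle⟩
  have htarget : ∀ w ∈ D.Z, a⁻¹ * w * a ∈ X w := fun w hw => by
    have hm := (mem_fixer.1 (inv_mem haf)).2.2 w hw
    rw [inv_inv] at hm
    rcases (CfsgLib.Extra2.mem_zpowers_iff (z_sq hJ)).1 hm with h | h
    · exact Or.inl (mul_inv_eq_one.1 h)
    · right
      rw [mul_inv_eq_iff_eq_mul.1 h]
      exact (mem_cH.1 (D.Z_le_H hJ hw)).symm
  obtain ⟨q, hq⟩ := hbij.2 (⟨_, htarget u hu⟩, ⟨_, htarget v hv⟩)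
  have h1 : (q.out : G) * u * (q.out : G)⁻¹ = a⁻¹ * u * a := congrArg Subtype.val (Prod.ext_iff.1 hq).1
  have h2 : (q.out : G) * v * (q.out : G)⁻¹ = a⁻¹ * v * a := congrArg Subtype.val (Prod.ext_iff.1 hq).2
  refine ⟨q.out, q.out.2, hgen _ (mem_cH.1 (mul_mem haH (E_le_H q.out.2))) ?_ ?_⟩
  · calc a * q.out * u = a * ((q.out : G) * u * (q.out : G)⁻¹) * q.out := by group
      _ = u * (a * q.out) := by rw [h1]; group
  · calc a * q.out * v = a * ((q.out : G) * v * (q.out : G)⁻¹) * q.out := by group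
      _ = v * (a * q.out) := by rw [h2]; group

theorem Dat.θ_range : (D.θ hJ).range = img hJ D.St := by
  refine le_antisymm ?_ fun d hd => ?_
  · rintro _ ⟨⟨h, hh⟩, rfl⟩
    obtain ⟨a, ha, e, he, hae⟩ := D.CZ_decomp hJ hh
    refine (mem_img hJ).2 ⟨a, (mem_inf.1 (mem_inf.1 ha).1).1, (mem_inf.1 ha).1, ?_⟩
    exact (D.θ_eq hJ (h := ⟨h, hh⟩) _ he hae).symm
  · obtain ⟨c, hc, hcS, rfl⟩ := (mem_img hJ).1 hd
    obtain ⟨p, hp, hpc⟩ := D.exists_fixer hJ hcS
    obtain ⟨e, he, hpe⟩ := D.exists_E_mul hJ hpc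
    refine ⟨⟨p * c * e, hpe⟩, ?_⟩
    rw [D.θ_eq hJ (mul_mem (P_le_C hJ hp) hc) he rfl, quo_eq_iff]
    simp only [mul_inv_rev]
    rw [mul_assoc, K_central hJ (P_le_K hJ (inv_mem hp)) hc, inv_mul_cancel_left]
    exact P_le_K hJ (inv_mem hp)

theorem Dat.card_CZ : Nat.card D.CZ = 2 ^ 11 * 1920 := by
  have h := (D.θ hJ).ker.card_mul_index
  rw [index_ker, D.θ_range hJ, D.card_img_St hJ, D.θ_ker hJ,
    Nat.card_congr (subgroupOfEquivOfLe (inf_le_right : D.E0 ≤ D.CZ)).toEquiv, D.card_E0 hJ] at h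
  exact h.symm

theorem Dat.card_Mn : Nat.card D.Mn = 2 ^ 11 * 1920 * 168 := by
  obtain ⟨ψ, hψ, hk, -⟩ := D.exists_psi hJ
  have h := ψ.ker.card_mul_index
  rw [index_ker, hk, Nat.card_congr (subgroupOfEquivOfLe D.CZ_le_Mn).toEquiv, D.card_CZ hJ,
    MonoidHom.range_eq_top.2 hψ, card_top, card_SL32] at h
  exact h.symm

end CfsgLib.J4Pentad
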