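/-
Janko-four type, the pentad 2-local subgroup: the radical `L` of the centraliser of `Z`, a special group
of order `2 ^ 15` with centre `Z`.
-/
import Cfsg.Agent.J4Local.Pentad.Cent
import Cfsg.Agent.Solvable.PGroupBasic

set_option autoImplicit false
set_option linter.style.haveILetI false
set_option linter.unusedSectionVars false

namespace CfsgLib.J4Pentad

open Subgroup CfsgLib.J4Local CfsgLib.J4Local.M22Elem CfsgLib.J4Local.FixMod
open scoped commutatorElement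

variable {G : Type*} [Group G] [Finite G] {z : G} {P : Subgroup G} (D : Dat z P)

/-- The conjugate of `C_E(Z)` by `g`. -/
abbrev Dat.U (g : G) : Subgroup G := D.E0.map (MulAut.conj g).toMonoidHom

theorem Dat.mem_U {g x : G} : x ∈ D.U g ↔ g⁻¹ * x * g ∈ D.E0 := by
  rw [mem_map]
  constructor
  · rintro ⟨y, hy, rfl⟩
    rw [MulEquiv.coe_toMonoidHom, MulAut.conj_apply, show g⁻¹ * (g * y * g⁻¹) * g = y by group]
    exact hy
  · intro h
    exact ⟨_, h, by rw [MulEquiv.coe_toMonoidHom, MulAut.conj_apply]; group⟩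

theorem Dat.U_one : D.U 1 = D.E0 := by
  ext x
  rw [D.mem_U]
  simp

theorem Dat.U_mul_conj {g h x : G} : x ∈ D.U h ↔ g * x * g⁻¹ ∈ D.U (g * h) := by
  rw [D.mem_U, D.mem_U, show (g * h)⁻¹ * (g * x * g⁻¹) * (g * h) = h⁻¹ * x * h by group]

omit [Finite G] in
theorem normalizer_sup {K A B : Subgroup G} (hA : K ≤ normalizer (A : Set G)) (hB : K ≤ normalizer (B : Set G)) :
    K ≤ normalizer ((A ⊔ B : Subgroup G) : Set G) :=
  le_normalizer_of_conj fun k hk x hx => by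
    have hle : A ⊔ B ≤ (A ⊔ B).comap (MulAut.conj k).toMonoidHom :=
      sup_le (fun y hy => mem_sup_left ((mem_normalizer_iff.1 (hA hk) y).1 hy))
        (fun y hy => mem_sup_right ((mem_normalizer_iff.1 (hB hk) y).1 hy))
    exact hle hx

variable (hJ : Cfsg.IsOfJankoFourTypeWith z P)

include hJ

theorem Dat.Z_le_E0 : D.Z ≤ D.E0 :=
  le_inf (D.Z_le_E hJ) fun a ha => mem_centralizer_iff.2 fun b hb => D.Z_comm b hb a ha

theorem Dat.CZ_normalizes_E0 : D.CZ ≤ normalizer (D.E0 : Set G) :=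
  le_normalizer_of_conj fun k hk x hx => mem_inf.2
    ⟨(mem_normalizer_iff.1 (H_le_normalizer_E (D.CZ_le_H hJ hk)) x).1 (mem_inf.1 hx).1,
      mul_mem (mul_mem hk (mem_inf.1 hx).2) (inv_mem hk)⟩

theorem Dat.centralizer_E0 : cE z ⊓ centralizer (D.E0 : Set G) = D.Z :=
  CfsgLib.Extra2.centralizer_centralizer (gen_E hJ) (D.z_mem_Z hJ) (D.Z_le_E hJ)

theorem Dat.exists_noncomm_E0 : ∃ a ∈ D.E0, ∃ b ∈ D.E0, a * b * a⁻¹ * b⁻¹ = z := by
  by_contra hno
  push Not at hno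
  have hle : D.E0 ≤ D.Z := by
    conv_rhs => rw [← D.centralizer_E0 hJ]
    refine le_inf inf_le_left fun b hb => mem_centralizer_iff.2 fun a ha => ?_
    rcases (gen_E hJ).comm a (mem_inf.1 ha).1 b (mem_inf.1 hb).1 with h | h
    · exact mul_inv_eq_iff_eq_mul.1 (mul_inv_eq_one.1 h)
    · exact absurd h (hno a ha b hb)
  have := card_le_of_le hle
  rw [D.card_E0 hJ, D.Z_card] at this
  norm_num at this

theorem Dat.card_U (g : G) : Nat.card (D.U g) = 2 ^ 11 := by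
  rw [card_map_of_injective (MulAut.conj g).injective, D.card_E0 hJ]

theorem Dat.U_le_CZ {g : G} (hg : g ∈ D.Mn) : D.U g ≤ D.CZ := fun x hx => by
  have h := (mem_inf.1 (D.mem_U.1 hx)).2
  refine mem_centralizer_iff.2 fun a ha => ?_
  have := mem_centralizer_iff.1 h _ ((mem_normalizer_iff''.1 hg a).1 ha)
  calc a * x = g * (g⁻¹ * a * g * (g⁻¹ * x * g)) * g⁻¹ := by group
    _ = x * a := by rw [this]; group

theorem Dat.Z_le_U {g : G} (hg : g ∈ D.Mn) : D.Z ≤ D.U g := fun a ha =>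
  D.mem_U.2 (D.Z_le_E0 hJ ((mem_normalizer_iff''.1 hg a).1 ha))

theorem Dat.CZ_normalizes_U {g : G} (hg : g ∈ D.Mn) : D.CZ ≤ normalizer (D.U g : Set G) := by
  refine le_normalizer_of_conj fun k hk x hx => D.mem_U.2 ?_
  have hk' : g⁻¹ * k * g ∈ D.CZ := by
    refine mem_centralizer_iff.2 fun a ha => ?_
    have := mem_centralizer_iff.1 hk _ ((mem_normalizer_iff.1 hg a).1 ha)
    calc a * (g⁻¹ * k * g) = g⁻¹ * (g * a * g⁻¹ * k) * g := by group
      _ = g⁻¹ * k * g * a := by rw [this]; group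
  have h := (mem_normalizer_iff.1 (D.CZ_normalizes_E0 hJ hk') _).1 (D.mem_U.1 hx)
  rwa [show g⁻¹ * k * g * (g⁻¹ * x * g) * (g⁻¹ * k * g)⁻¹ = g⁻¹ * (k * x * k⁻¹) * g by group] at h

theorem Dat.U_comm {g a b : G} (ha : a ∈ D.U g) (hb : b ∈ D.U g) :
    a * b * a⁻¹ * b⁻¹ = 1 ∨ a * b * a⁻¹ * b⁻¹ = g * z * g⁻¹ := by
  rcases (gen_E hJ).comm _ (mem_inf.1 (D.mem_U.1 ha)).1 _ (mem_inf.1 (D.mem_U.1 hb)).1 with h | h
  · left
    calc a * b * a⁻¹ * b⁻¹ = g * ((g⁻¹ * a * g) * (g⁻¹ * b * g) * (g⁻¹ * a * g)⁻¹ * (g⁻¹ * b * g)⁻¹) * g⁻¹ := by group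
      _ = 1 := by rw [h]; group
  · right
    calc a * b * a⁻¹ * b⁻¹ = g * ((g⁻¹ * a * g) * (g⁻¹ * b * g) * (g⁻¹ * a * g)⁻¹ * (g⁻¹ * b * g)⁻¹) * g⁻¹ := by group
      _ = g * z * g⁻¹ := by rw [h]

theorem Dat.U_noncomm (g : G) : ∃ a ∈ D.U g, ∃ b ∈ D.U g, a * b * a⁻¹ * b⁻¹ = g * z * g⁻¹ := by
  obtain ⟨a, ha, b, hb, h⟩ := D.exists_noncomm_E0 hJ
  exact ⟨g * a * g⁻¹, ⟨a, ha, rfl⟩, g * b * g⁻¹, ⟨b, hb, rfl⟩, by rw [← h]; group⟩

theorem Dat.U_sq_mem {g x : G} (hg : g ∈ D.Mn) (hx : x ∈ D.U g) : x * x ∈ D.Z := by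
  rcases (gen_E hJ).square _ (mem_inf.1 (D.mem_U.1 hx)).1 with h | h
  · rw [show x * x = g * (g⁻¹ * x * g * (g⁻¹ * x * g)) * g⁻¹ by group, h, mul_one, mul_inv_cancel]
    exact one_mem _
  · rw [show x * x = g * (g⁻¹ * x * g * (g⁻¹ * x * g)) * g⁻¹ by group, h]
    exact (mem_normalizer_iff.1 hg z).1 (D.z_mem_Z hJ)

theorem Dat.eq_of_U_eq {g h : G} (e : D.U g = D.U h) : g * z * g⁻¹ = h * z * h⁻¹ := by
  obtain ⟨a, ha, b, hb, hab⟩ := D.U_noncomm hJ g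
  rcases D.U_comm hJ (e ▸ ha : a ∈ D.U h) (e ▸ hb : b ∈ D.U h) with h' | h' <;> rw [hab] at h'
  · exact absurd (conj_eq_one_iff.1 h') (z_ne_one hJ)
  · exact h'

theorem Dat.isPGroup_U (g : G) : IsPGroup 2 (D.U g) :=
  IsPGroup.of_card (n := 11) (D.card_U hJ g)

/-- A 2-subgroup between `Z` and `C(Z)` normalised by `f` has order a power of sixteen over `Z`. -/
theorem Dat.two_group_card {S : Subgroup G} (hS : S ≤ D.CZ) (hZS : D.Z ≤ S) (h2 : IsPGroup 2 S)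
    (hf : D.f ∈ normalizer (S : Set G)) : ∃ k, Nat.card S = 2 ^ k ∧ 2 ^ k % 5 = 3 ∧ 3 ≤ k := by
  haveI : Fact (Nat.Prime 5) := ⟨by norm_num⟩
  haveI : Fact (Nat.Prime 2) := ⟨Nat.prime_two⟩
  obtain ⟨k, hk⟩ := IsPGroup.iff_card.1 h2
  have hp : IsPGroup 5 ↥(zpowers D.f) :=
    IsPGroup.of_card (n := 1) (by rw [Nat.card_zpowers, D.f_ord, pow_one])
  have h := card_modEq_centralizer hp (zpowers_le.2 hf)
  have e : S ⊓ centralizer ((zpowers D.f : Subgroup G) : Set G) = D.Z := by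
    refine le_antisymm (fun x hx => ?_) (le_inf hZS fun a ha => mem_centralizer_iff.2 fun g hg =>
      (D.f_comm_J hg (D.Z_le ha)).eq)
    obtain ⟨hxS, hxc⟩ := mem_inf.1 hx
    have hxC : x ∈ D.Cf := mem_centralizer_singleton_iff.2 (mem_centralizer_iff.1 hxc _ (mem_zpowers D.f)).symm
    obtain ⟨i, hi⟩ := h2 ⟨x, hxS⟩
    have hxJ := D.mem_J hxC (congrArg Subtype.val hi) (Nat.Coprime.pow_left i (by decide))
    rw [← D.J_inter_CZ hJ]
    exact mem_inf.2 ⟨hxJ, hS hxS⟩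
  rw [e, D.Z_card, hk] at h
  refine ⟨k, hk, h, ?_⟩
  have := card_le_of_le hZS
  rw [D.Z_card, hk] at this
  exact (Nat.pow_le_pow_iff_right (le_refl 2)).1 this

theorem Dat.f_mem_CZ : D.f ∈ D.CZ :=
  mem_centralizer_iff.2 fun a ha => (D.f_comm_J (mem_zpowers D.f) (D.Z_le ha)).symm.eq

theorem Dat.f_normalizes_U {g : G} (hg : g ∈ D.J) : D.f ∈ normalizer (D.U g : Set G) :=
  D.CZ_normalizes_U hJ (D.J_le_normalizer hg) (D.f_mem_CZ hJ)

theorem Dat.pow_cases {k : ℕ} (h : 2 ^ k % 5 = 3) (hk : k ≤ 18) : k = 3 ∨ k = 7 ∨ k = 11 ∨ k = 15 := by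
  interval_cases k <;> simp at h ⊢

/-- Two different conjugates of `C_E(Z)` meet in a subgroup of order 128. -/
theorem Dat.card_inter {g : G} (hg : g ∈ D.J) (hne : g * z * g⁻¹ ≠ z) :
    Nat.card ↥(D.E0 ⊓ D.U g) = 128 := by
  haveI : Fact (Nat.Prime 2) := ⟨Nat.prime_two⟩
  have hgN := D.J_le_normalizer hg
  set A := D.E0 ⊓ D.U g with hA
  obtain ⟨k, hk, hk5, hk3⟩ := D.two_group_card hJ (inf_le_left.trans inf_le_right : A ≤ D.CZ)
    (le_inf (D.Z_le_E0 hJ) (D.Z_le_U hJ hgN)) ((D.isPGroup_U hJ g).to_le inf_le_right)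
    (by
      have h1 := D.f_normalizes_U hJ (one_mem D.J)
      have h2 := D.f_normalizes_U hJ hg
      rw [D.U_one] at h1
      exact Subgroup.mem_normalizer_iff.2 fun x => ⟨fun hx => mem_inf.2
        ⟨(mem_normalizer_iff.1 h1 x).1 (mem_inf.1 hx).1, (mem_normalizer_iff.1 h2 x).1 (mem_inf.1 hx).2⟩,
        fun hx => mem_inf.2
        ⟨(mem_normalizer_iff.1 h1 x).2 (mem_inf.1 hx).1, (mem_normalizer_iff.1 h2 x).2 (mem_inf.1 hx).2⟩⟩)
  have hk11 : k ≤ 11 := by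
    have := card_le_of_le (inf_le_left : A ≤ D.E0)
    rw [hk, D.card_E0 hJ] at this
    exact (Nat.pow_le_pow_iff_right (le_refl 2)).1 this
  have hn : D.U g ≤ normalizer (D.E0 : Set G) := (D.U_le_CZ hJ hgN).trans (D.CZ_normalizes_E0 hJ)
  have hs := CfsgLib.Solvable.card_sup_mul_card_inf hn
  rw [inf_comm, ← hA, hk, D.card_E0 hJ, D.card_U hJ] at hs
  have hd := card_dvd_of_le (sup_le (D.U_le_CZ hJ hgN) inf_le_right : D.U g ⊔ D.E0 ≤ D.CZ)
  rw [D.card_CZ hJ] at hd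
  rcases Dat.pow_cases hJ hk5 (hk11.trans (by norm_num)) with rfl | rfl | rfl | rfl
  · exfalso
    norm_num at hs hd
    have : Nat.card ↥(D.U g ⊔ D.E0) = 524288 := by omega
    rw [this] at hd
    norm_num at hd
  · rw [hk]; norm_num
  · exfalso
    have h1 : A = D.E0 := eq_of_le_of_card_ge inf_le_left (by rw [hk, D.card_E0 hJ])
    have h2 : A = D.U g := eq_of_le_of_card_ge inf_le_right (by rw [hk, D.card_U hJ])
    have := D.eq_of_U_eq hJ (g := 1) (h := g) (by rw [D.U_one, ← h1, h2])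
    rw [one_mul, inv_one, mul_one] at this
    exact hne this.symm
  · omega

theorem Dat.exists_moving : ∃ g ∈ D.J, g * z * g⁻¹ ≠ z := by
  obtain ⟨w, hw, hw1, hwz⟩ := D.exists_w hJ
  obtain ⟨g, hg, h⟩ := D.transitive hJ hw hw1
  exact ⟨g, hg, by rw [h]; exact hwz⟩

/-- The radical of the centraliser of `Z`. -/
noncomputable def Dat.L : Subgroup G := D.U (D.exists_moving hJ).choose ⊔ D.E0

theorem Dat.L_le_CZ : D.L hJ ≤ D.CZ :=
  sup_le (D.U_le_CZ hJ (D.J_le_normalizer (D.exists_moving hJ).choose_spec.1)) inf_le_right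

theorem Dat.card_L : Nat.card (D.L hJ) = 2 ^ 15 := by
  obtain ⟨hg, hne⟩ := (D.exists_moving hJ).choose_spec
  have hn : D.U (D.exists_moving hJ).choose ≤ normalizer (D.E0 : Set G) :=
    (D.U_le_CZ hJ (D.J_le_normalizer hg)).trans (D.CZ_normalizes_E0 hJ)
  have hs := CfsgLib.Solvable.card_sup_mul_card_inf hn
  rw [inf_comm, D.card_inter hJ hg hne, D.card_E0 hJ, D.card_U hJ] at hs
  show Nat.card ↥(D.U (D.exists_moving hJ).choose ⊔ D.E0) = _
  norm_num at hs ⊢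
  omega

theorem Dat.E0_le_L : D.E0 ≤ D.L hJ := le_sup_right

theorem Dat.Z_le_L : D.Z ≤ D.L hJ := (D.Z_le_E0 hJ).trans (D.E0_le_L hJ)

theorem Dat.isPGroup_L : IsPGroup 2 (D.L hJ) := IsPGroup.of_card (n := 15) (D.card_L hJ)

theorem Dat.CZ_normalizes_L : D.CZ ≤ normalizer (D.L hJ : Set G) := by
  have h1 := D.CZ_normalizes_U hJ (D.J_le_normalizer (D.exists_moving hJ).choose_spec.1)
  refine le_normalizer_of_conj fun k hk x hx => ?_
  have hle : D.L hJ ≤ (D.L hJ).comap (MulAut.conj k).toMonoidHom :=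
    sup_le (fun y hy => mem_sup_left ((mem_normalizer_iff.1 (h1 hk) y).1 hy))
      (fun y hy => mem_sup_right ((mem_normalizer_iff.1 (D.CZ_normalizes_E0 hJ hk) y).1 hy))
  exact hle hx

theorem Dat.f_normalizes_L : D.f ∈ normalizer (D.L hJ : Set G) :=
  D.CZ_normalizes_L hJ (D.f_mem_CZ hJ)

/-- `L` contains every normal 2-subgroup of `C(Z)`. -/
theorem Dat.le_L {X : Subgroup G} (hX : X ≤ D.CZ) (h2 : IsPGroup 2 X) (hn : D.CZ ≤ normalizer (X : Set G)) :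
    X ≤ D.L hJ := by
  have hXn : X ≤ normalizer (D.L hJ : Set G) := hX.trans (D.CZ_normalizes_L hJ)
  have hp : IsPGroup 2 ↥(X ⊔ D.L hJ) := h2.to_sup_of_normal_right' (D.isPGroup_L hJ) hXn
  have hfC := D.f_mem_CZ hJ
  have hf' : D.f ∈ normalizer ((X ⊔ D.L hJ : Subgroup G) : Set G) :=
    normalizer_sup hn (D.CZ_normalizes_L hJ) hfC
  obtain ⟨k, hk, hk5, -⟩ := D.two_group_card hJ (sup_le hX (D.L_le_CZ hJ))
    ((D.Z_le_L hJ).trans le_sup_right) hp hf'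
  have hd : 2 ^ k ∣ 2 ^ 18 * 15 := by
    have := card_dvd_of_le (sup_le hX (D.L_le_CZ hJ))
    rw [hk, D.card_CZ hJ] at this
    exact this.trans (by norm_num)
  have hk18 : k ≤ 18 := (Nat.pow_dvd_pow_iff_le_right (le_refl 2)).1
    ((Nat.Coprime.pow_left k (by decide : Nat.Coprime 2 15)).dvd_of_dvd_mul_right hd)
  have h15 : Nat.card ↥(X ⊔ D.L hJ) ≤ 2 ^ 15 := by
    rw [hk]
    rcases Dat.pow_cases hJ hk5 hk18 with rfl | rfl | rfl | rfl <;> norm_num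
  have heq : D.L hJ = X ⊔ D.L hJ := eq_of_le_of_card_ge le_sup_right (by rwa [D.card_L hJ])
  exact heq.ge.trans' le_sup_left

theorem Dat.U_le_L {g : G} (hg : g ∈ D.J) : D.U g ≤ D.L hJ :=
  D.le_L hJ (D.U_le_CZ hJ (D.J_le_normalizer hg)) (D.isPGroup_U hJ g)
    (D.CZ_normalizes_U hJ (D.J_le_normalizer hg))

theorem Dat.L_eq {g : G} (hg : g ∈ D.J) (hne : g * z * g⁻¹ ≠ z) : D.U g ⊔ D.E0 = D.L hJ := by
  refine eq_of_le_of_card_ge (sup_le (D.U_le_L hJ hg) (D.E0_le_L hJ)) ?_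
  have hs := CfsgLib.Solvable.card_sup_mul_card_inf
    ((D.U_le_CZ hJ (D.J_le_normalizer hg)).trans (D.CZ_normalizes_E0 hJ))
  rw [inf_comm, D.card_inter hJ hg hne, D.card_E0 hJ, D.card_U hJ] at hs
  rw [D.card_L hJ]
  norm_num at hs ⊢
  omega

theorem Dat.comm_mem_of_U {g x y : G} (hg : g ∈ D.Mn) (hx : x ∈ D.U g) (hy : y ∈ D.U g) :
    x * y * x⁻¹ * y⁻¹ ∈ D.Z := by
  rcases D.U_comm hJ hx hy with h | h <;> rw [h]
  · exact one_mem _
  · exact (mem_normalizer_iff.1 hg z).1 (D.z_mem_Z hJ)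

/-- The subgroups `E0 ∩ U g` are not all equal. -/
theorem Dat.exists_two : ∃ g ∈ D.J, ∃ h ∈ D.J, g * z * g⁻¹ ≠ z ∧ h * z * h⁻¹ ≠ z ∧
    D.E0 ⊓ D.U g ≠ D.E0 ⊓ D.U h := by
  by_contra hno
  push Not at hno
  obtain ⟨g₀, hg₀, hne₀⟩ := D.exists_moving hJ
  set A := D.E0 ⊓ D.U g₀ with hA
  haveI : Fact (Nat.Prime 7) := ⟨by norm_num⟩
  haveI : Fact (Nat.Prime 5) := ⟨by norm_num⟩
  obtain ⟨⟨s, hsJ⟩, hso⟩ := exists_prime_orderOf_dvd_card' (G := ↥D.J) 7 (by rw [D.card_J]; norm_num)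
  rw [orderOf_mk] at hso
  have hs7 : s ^ 7 = 1 := hso ▸ pow_orderOf_eq_one s
  have hsf : Commute D.f s := D.f_comm_J (mem_zpowers D.f) hsJ
  have hsz : s * z * s⁻¹ ≠ z := fun h => by
    have := eq_one_of_seven hJ D.f_mem D.f_ord (mem_cH.2 (mul_inv_eq_iff_eq_mul.1 h)) hs7 hsf.symm.eq
    rw [this, orderOf_one] at hso
    norm_num at hso
  have hAU : ∀ g ∈ D.J, A ≤ D.U g := by
    intro g hg
    by_cases hgz : g * z * g⁻¹ = z
    · intro x hx
      have hgH : g ∈ cH z := mem_cH.2 (mul_inv_eq_iff_eq_mul.1 hgz)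
      obtain ⟨hE, hC⟩ := mem_inf.1 (mem_inf.1 hx).1
      refine D.mem_U.2 (mem_inf.2 ⟨(mem_normalizer_iff''.1 (H_le_normalizer_E hgH) x).1 hE, ?_⟩)
      refine mem_centralizer_iff.2 fun a ha => ?_
      have := mem_centralizer_iff.1 hC _ ((mem_normalizer_iff.1 (D.J_le_normalizer hg) a).1 ha)
      calc a * (g⁻¹ * x * g) = g⁻¹ * (g * a * g⁻¹ * x) * g := by group
        _ = _ := by rw [this]; group
    · exact (hno g₀ hg₀ g hg hne₀ hgz).le.trans inf_le_right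
  have hAn : ∀ k ∈ zpowers s, ∀ x ∈ A, k * x * k⁻¹ ∈ A := by
    intro k hk x hx
    have hkJ : k ∈ D.J := zpowers_le.2 hsJ hk
    refine mem_inf.2 ⟨?_, ?_⟩
    · rw [← D.U_one, ← mul_inv_cancel k]
      exact D.U_mul_conj.1 (hAU _ (inv_mem hkJ) hx)
    · have := D.U_mul_conj (g := k).1 (hAU _ (mul_mem (inv_mem hkJ) hg₀) hx)
      rwa [mul_inv_cancel_left] at this
  have hA128 : Nat.card A = 128 := D.card_inter hJ hg₀ hne₀
  have hpf : IsPGroup 5 ↥(zpowers D.f) :=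
    IsPGroup.of_card (n := 1) (by rw [Nat.card_zpowers, D.f_ord, pow_one])
  have hps : IsPGroup 7 ↥(zpowers s) :=
    IsPGroup.of_card (n := 1) (by rw [Nat.card_zpowers, hso, pow_one])
  -- the fixed points of `s` in `A`
  set C := A ⊓ centralizer ((zpowers s : Subgroup G) : Set G) with hC
  have h7 := card_modEq_centralizer hps (le_normalizer_of_conj hAn)
  rw [hA128, ← hC] at h7
  have hfC : zpowers D.f ≤ normalizer (C : Set G) := le_normalizer_of_conj fun k hk x hx => by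
    obtain ⟨hx1, hx2⟩ := mem_inf.1 hx
    have h1 : zpowers D.f ≤ normalizer (D.E0 : Set G) :=
      D.U_one ▸ zpowers_le.2 (D.f_normalizes_U hJ (one_mem D.J))
    have h2 : zpowers D.f ≤ normalizer (D.U g₀ : Set G) := zpowers_le.2 (D.f_normalizes_U hJ hg₀)
    refine mem_inf.2 ⟨mem_inf.2 ⟨(mem_normalizer_iff.1 (h1 hk) x).1 (mem_inf.1 hx1).1,
      (mem_normalizer_iff.1 (h2 hk) x).1 (mem_inf.1 hx1).2⟩, ?_⟩
    have hck : k ∈ centralizer ((zpowers s : Subgroup G) : Set G) := mem_centralizer_iff.2 fun t ht =>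
      (D.f_comm_J hk (zpowers_le.2 hsJ ht)).symm.eq
    exact mul_mem (mul_mem hck hx2) (inv_mem hck)
  have h5 := card_modEq_centralizer hpf hfC
  have hfix : C ⊓ centralizer ((zpowers D.f : Subgroup G) : Set G) = ⊥ := by
    refine (eq_bot_iff_forall _).2 fun x hx => ?_
    obtain ⟨hxC, hxf⟩ := mem_inf.1 hx
    obtain ⟨hxA, hxs⟩ := mem_inf.1 hxC
    have hxcz : x ∈ D.CZ := (mem_inf.1 (mem_inf.1 hxA).1).2
    have hxCf : x ∈ D.Cf := mem_centralizer_singleton_iff.2 (mem_centralizer_iff.1 hxf _ (mem_zpowers D.f)).symm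
    obtain ⟨i, hi⟩ := (D.isPGroup_U hJ g₀) ⟨x, (mem_inf.1 hxA).2⟩
    have hxJ := D.mem_J hxCf (congrArg Subtype.val hi) (Nat.Coprime.pow_left i (by decide))
    have hxZ : x ∈ D.Z := by rw [← D.J_inter_CZ hJ]; exact mem_inf.2 ⟨hxJ, hxcz⟩
    by_contra hx1
    obtain ⟨m, hm, hmx⟩ := D.transitive hJ hxZ hx1
    have hsx : s * x = x * s := mem_centralizer_iff.1 hxs s (mem_zpowers s)
    have hs' : m⁻¹ * s * m ∈ cH z := mem_cH.2 (by
      calc m⁻¹ * s * m * z = m⁻¹ * (s * (m * z * m⁻¹)) * m := by group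
        _ = z * (m⁻¹ * s * m) := by rw [hmx, hsx, ← hmx]; group)
    have hcm : Commute D.f (m⁻¹ * s * m) :=
      ((D.f_comm_J (mem_zpowers D.f) hm).inv_right.mul_right hsf).mul_right (D.f_comm_J (mem_zpowers D.f) hm)
    have := eq_one_of_seven hJ D.f_mem D.f_ord hs'
      (by rw [show m⁻¹ * s * m = m⁻¹ * s * m⁻¹⁻¹ by rw [inv_inv], conj_pow, hs7, mul_one, mul_inv_cancel])
      hcm.symm.eq
    have hs1 : s = 1 := by
      calc s = m * (m⁻¹ * s * m) * m⁻¹ := by group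
        _ = 1 := by rw [this]; group
    rw [hs1, orderOf_one] at hso
    norm_num at hso
  rw [hfix, card_bot] at h5
  have hCd : Nat.card C ∣ 2 ^ 7 := by
    rw [show (2 : ℕ) ^ 7 = 128 by norm_num, ← hA128]; exact card_dvd_of_le inf_le_left
  have hC16 : Nat.card C = 16 := by
    obtain ⟨k, hk, hk'⟩ := (Nat.dvd_prime_pow Nat.prime_two).1 hCd
    rw [hk'] at h5 h7 ⊢
    unfold Nat.ModEq at h5 h7
    interval_cases k <;> simp at h5 h7 ⊢
  -- the fixed points of `s` in `L`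
  have hsL : zpowers s ≤ normalizer (D.L hJ : Set G) := le_normalizer_of_conj fun k hk x hx => by
    have hkJ : k ∈ D.J := zpowers_le.2 hsJ hk
    have hle : D.L hJ ≤ (D.L hJ).comap (MulAut.conj k).toMonoidHom := by
      refine sup_le (fun y hy => ?_) (fun y hy => ?_)
      · exact D.U_le_L hJ (mul_mem hkJ (D.exists_moving hJ).choose_spec.1) (D.U_mul_conj.1 hy)
      · rw [← D.U_one] at hy
        exact D.U_le_L hJ (mul_mem hkJ (one_mem _)) (D.U_mul_conj.1 hy)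
    exact hle hx
  set B := D.L hJ ⊓ centralizer ((zpowers s : Subgroup G) : Set G) with hB
  have h7' := card_modEq_centralizer hps hsL
  rw [D.card_L hJ, ← hB] at h7'
  have hfB : zpowers D.f ≤ normalizer (B : Set G) := le_normalizer_of_conj fun k hk x hx => by
    have hck : k ∈ centralizer ((zpowers s : Subgroup G) : Set G) := mem_centralizer_iff.2 fun t ht =>
      (D.f_comm_J hk (zpowers_le.2 hsJ ht)).symm.eq
    exact mem_inf.2 ⟨(mem_normalizer_iff.1 (zpowers_le.2 (D.f_normalizes_L hJ) hk) x).1 (mem_inf.1 hx).1,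
      mul_mem (mul_mem hck (mem_inf.1 hx).2) (inv_mem hck)⟩
  have h5' := card_modEq_centralizer hpf hfB
  have hBZ : B ⊓ D.Z = ⊥ := by
    refine (eq_bot_iff_forall _).2 fun x hx => ?_
    have hxA : x ∈ A := mem_inf.2 ⟨D.Z_le_E0 hJ (mem_inf.1 hx).2,
      D.Z_le_U hJ (D.J_le_normalizer hg₀) (mem_inf.1 hx).2⟩
    have hm : x ∈ C ⊓ centralizer ((zpowers D.f : Subgroup G) : Set G) :=
      mem_inf.2 ⟨mem_inf.2 ⟨hxA, (mem_inf.1 (mem_inf.1 hx).1).2⟩, mem_centralizer_iff.2 fun g hg =>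
        (D.f_comm_J hg (D.Z_le (mem_inf.1 hx).2)).eq⟩
    rw [hfix] at hm
    exact mem_bot.1 hm
  have hfixB : B ⊓ centralizer ((zpowers D.f : Subgroup G) : Set G) = ⊥ := by
    refine (eq_bot_iff_forall _).2 fun x hx => ?_
    obtain ⟨hxB, hxf⟩ := mem_inf.1 hx
    have hxCf : x ∈ D.Cf := mem_centralizer_singleton_iff.2 (mem_centralizer_iff.1 hxf _ (mem_zpowers D.f)).symm
    obtain ⟨i, hi⟩ := (D.isPGroup_L hJ) ⟨x, (mem_inf.1 hxB).1⟩
    have hxJ := D.mem_J hxCf (congrArg Subtype.val hi) (Nat.Coprime.pow_left i (by decide))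
    have hxZ : x ∈ D.Z := by
      rw [← D.J_inter_CZ hJ]; exact mem_inf.2 ⟨hxJ, D.L_le_CZ hJ (mem_inf.1 hxB).1⟩
    have : x ∈ B ⊓ D.Z := mem_inf.2 ⟨hxB, hxZ⟩
    rwa [hBZ, mem_bot] at this
  rw [hfixB, card_bot] at h5'
  have hnB : B ≤ normalizer (D.Z : Set G) := (inf_le_left.trans (D.L_le_CZ hJ)).trans D.CZ_le_Mn
  have hsup := CfsgLib.Solvable.card_sup_of_disjoint hnB hBZ
  have hle15 : Nat.card ↥(B ⊔ D.Z) ∣ 2 ^ 15 := D.card_L hJ ▸ card_dvd_of_le (sup_le inf_le_left (D.Z_le_L hJ))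
  have hCB : C ≤ B := inf_le_inf_right _ (inf_le_left.trans (D.E0_le_L hJ))
  have hge : 16 ≤ Nat.card B := hC16 ▸ card_le_of_le hCB
  have hB12 : Nat.card B = 2 ^ 12 := by
    have hd : Nat.card B ∣ 2 ^ 15 := D.card_L hJ ▸ card_dvd_of_le inf_le_left
    obtain ⟨k, hk, hk'⟩ := (Nat.dvd_prime_pow Nat.prime_two).1 hd
    rw [hk'] at h5' h7' hge hsup ⊢
    rw [hsup, D.Z_card] at hle15
    unfold Nat.ModEq at h5' h7'
    interval_cases k <;> simp at h5' h7' hge hle15 ⊢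
  have htop : B ⊔ D.Z = D.L hJ := eq_of_le_of_card_ge (sup_le inf_le_left (D.Z_le_L hJ))
    (by rw [D.card_L hJ, hsup, hB12, D.Z_card]; norm_num)
  refine hsz ?_
  have hUs : D.U s = D.U 1 := ?_
  · simpa using D.eq_of_U_eq hJ hUs
  symm
  rw [D.U_one]
  refine eq_of_le_of_card_ge (fun e he => ?_) (by rw [D.card_U hJ, D.card_E0 hJ])
  have heL : e ∈ B ⊔ D.Z := htop.symm ▸ D.E0_le_L hJ he
  obtain ⟨b, hb, w, hw, rfl⟩ := (CfsgLib.Solvable.mem_sup_of_le_normalizer hnB).1 heL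
  refine mul_mem ?_ (D.Z_le_U hJ (D.J_le_normalizer hsJ) hw)
  have hbE : b ∈ D.E0 := by
    have := mul_mem he (inv_mem (D.Z_le_E0 hJ hw))
    rwa [mul_inv_cancel_right] at this
  refine D.mem_U.2 ?_
  have hbs : s * b = b * s := mem_centralizer_iff.1 (mem_inf.1 hb).2 s (mem_zpowers s)
  rw [mul_assoc, ← hbs, inv_mul_cancel_left]
  exact hbE

/-- `L / Z` is abelian. -/
theorem Dat.L_comm {x y : G} (hx : x ∈ D.L hJ) (hy : y ∈ D.L hJ) : x * y * x⁻¹ * y⁻¹ ∈ D.Z := by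
  obtain ⟨g, hg, h, hh, hgne, hhne, hne⟩ := D.exists_two hJ
  have hgN := D.J_le_normalizer hg
  have hhN := D.J_le_normalizer hh
  set S := fixedSub (D.L hJ) D.Z ((D.L_le_CZ hJ).trans D.CZ_le_Mn) (D.L hJ : Set G) with hS
  -- a part of `E0` shared with another conjugate is central modulo `Z`
  have hpart : ∀ k ∈ D.J, k * z * k⁻¹ ≠ z → D.E0 ⊓ D.U k ≤ S := by
    intro k hk hkne x hx
    obtain ⟨hx1, hx2⟩ := mem_inf.1 hx
    refine ⟨D.E0_le_L hJ hx1, fun q hq => ?_⟩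
    rw [SetLike.mem_coe, ← D.L_eq hJ hk hkne] at hq
    obtain ⟨u, hu, e, he, rfl⟩ := (CfsgLib.Solvable.mem_sup_of_le_normalizer
      ((D.U_le_CZ hJ (D.J_le_normalizer hk)).trans (D.CZ_normalizes_E0 hJ))).1 hq
    rw [show u * e * x * (u * e)⁻¹ * x⁻¹ = u * (e * x * e⁻¹ * x⁻¹) * u⁻¹ * (u * x * u⁻¹ * x⁻¹) by group]
    have h1 : e * x * e⁻¹ * x⁻¹ ∈ D.Z := by
      have := D.comm_mem_of_U hJ (g := 1) (one_mem _) (D.U_one.symm ▸ he) (D.U_one.symm ▸ hx1)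
      exact this
    refine mul_mem ((mem_normalizer_iff.1 (D.CZ_le_Mn (D.U_le_CZ hJ (D.J_le_normalizer hk) hu)) _).1 h1) ?_
    exact D.comm_mem_of_U hJ (D.J_le_normalizer hk) hu hx2
  set A := D.E0 ⊓ D.U g with hA
  set B := D.E0 ⊓ D.U h with hB
  have hE0 : D.E0 ≤ S := by
    have hn : A ≤ normalizer (B : Set G) := by
      refine le_normalizer_of_conj fun a ha b hb => ?_
      have haC : a ∈ D.CZ := (mem_inf.1 (mem_inf.1 ha).1).2
      exact mem_inf.2 ⟨(mem_normalizer_iff.1 (D.CZ_normalizes_E0 hJ haC) b).1 (mem_inf.1 hb).1,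
        (mem_normalizer_iff.1 (D.CZ_normalizes_U hJ hhN haC) b).1 (mem_inf.1 hb).2⟩
    have hAB : Nat.card ↥(A ⊓ B) = 8 := by
      obtain ⟨k, hk, hk5, hk3⟩ := D.two_group_card hJ (inf_le_left.trans (inf_le_left.trans inf_le_right) : A ⊓ B ≤ D.CZ)
        (le_inf (le_inf (D.Z_le_E0 hJ) (D.Z_le_U hJ hgN)) (le_inf (D.Z_le_E0 hJ) (D.Z_le_U hJ hhN)))
        ((D.isPGroup_U hJ g).to_le (inf_le_left.trans inf_le_right))
        (by
          have h1 : zpowers D.f ≤ normalizer (D.E0 : Set G) :=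
            D.U_one ▸ zpowers_le.2 (D.f_normalizes_U hJ (one_mem D.J))
          have h2 : zpowers D.f ≤ normalizer (D.U g : Set G) := zpowers_le.2 (D.f_normalizes_U hJ hg)
          have h3 : zpowers D.f ≤ normalizer (D.U h : Set G) := zpowers_le.2 (D.f_normalizes_U hJ hh)
          refine le_normalizer_of_conj (fun k hk x hx => ?_) (mem_zpowers D.f)
          obtain ⟨⟨hx1, hx2⟩, -, hx3⟩ := hx
          exact ⟨⟨(mem_normalizer_iff.1 (h1 hk) x).1 hx1, (mem_normalizer_iff.1 (h2 hk) x).1 hx2⟩,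
            (mem_normalizer_iff.1 (h1 hk) x).1 hx1, (mem_normalizer_iff.1 (h3 hk) x).1 hx3⟩)
      have hlt : Nat.card ↥(A ⊓ B) < 128 := by
        refine D.card_inter hJ hg hgne ▸ CfsgLib.Solvable.card_lt_of_lt (lt_of_le_of_ne inf_le_left fun e => hne ?_)
        exact eq_of_le_of_card_ge (inf_eq_left.1 e) (by rw [D.card_inter hJ hg hgne, D.card_inter hJ hh hhne])
      rw [hk] at hlt ⊢
      have : k < 7 := (Nat.pow_lt_pow_iff_right (le_refl 2)).1 (show 2 ^ k < 2 ^ 7 from hlt)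
      rcases Dat.pow_cases hJ hk5 (by omega) with rfl | rfl | rfl | rfl <;> simp at this ⊢
    have hs := CfsgLib.Solvable.card_sup_mul_card_inf hn
    rw [hAB, D.card_inter hJ hg hgne, D.card_inter hJ hh hhne] at hs
    have htop : A ⊔ B = D.E0 := eq_of_le_of_card_ge (sup_le inf_le_left inf_le_left) (by
      rw [D.card_E0 hJ]; norm_num; omega)
    rw [← htop]
    exact sup_le (hpart g hg hgne) (hpart h hh hhne)
  have hU : D.U g ≤ S := by
    intro x hx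
    refine ⟨D.U_le_L hJ hg hx, fun q hq => ?_⟩
    rw [SetLike.mem_coe, ← D.L_eq hJ hg hgne] at hq
    obtain ⟨u, hu, e, he, rfl⟩ := (CfsgLib.Solvable.mem_sup_of_le_normalizer
      ((D.U_le_CZ hJ hgN).trans (D.CZ_normalizes_E0 hJ))).1 hq
    rw [show u * e * x * (u * e)⁻¹ * x⁻¹ = u * (e * x * e⁻¹ * x⁻¹) * u⁻¹ * (u * x * u⁻¹ * x⁻¹) by group]
    refine mul_mem ((mem_normalizer_iff.1 (D.CZ_le_Mn (D.U_le_CZ hJ hgN hu)) _).1 ?_)
      (D.comm_mem_of_U hJ hgN hu hx)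
    have := (hE0 he).2 x (D.U_le_L hJ hg hx)
    rw [show e * x * e⁻¹ * x⁻¹ = (x * e * x⁻¹ * e⁻¹)⁻¹ by group]
    exact inv_mem this
  have hall : D.L hJ ≤ S := by
    rw [← D.L_eq hJ hg hgne]
    exact sup_le hU hE0
  exact (hall hy).2 x hx

theorem Dat.L_sq {x : G} (hx : x ∈ D.L hJ) : x * x ∈ D.Z := by
  obtain ⟨g, hg, hne⟩ := D.exists_moving hJ
  have hgN := D.J_le_normalizer hg
  rw [← D.L_eq hJ hg hne] at hx
  obtain ⟨u, hu, e, he, rfl⟩ := (CfsgLib.Solvable.mem_sup_of_le_normalizer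
    ((D.U_le_CZ hJ hgN).trans (D.CZ_normalizes_E0 hJ))).1 hx
  have huL := D.U_le_L hJ hg hu
  have heL := D.E0_le_L hJ he
  rw [show u * e * (u * e) = u * u * (u⁻¹ * (e * u * e⁻¹ * u⁻¹) * u) * (e * e) by group]
  refine mul_mem (mul_mem (D.U_sq_mem hJ hgN hu) ?_) (D.U_sq_mem hJ (one_mem _) (D.U_one.symm ▸ he))
  exact (mem_normalizer_iff''.1 (D.CZ_le_Mn (D.L_le_CZ hJ huL)) _).1 (D.L_comm hJ heL huL)

/-- The centre of `L` is `Z`. -/
theorem Dat.center_L {x : G} (hx : x ∈ D.L hJ) (hc : ∀ y ∈ D.L hJ, y * x = x * y) : x ∈ D.Z := by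
  haveI : Fact (Nat.Prime 2) := ⟨Nat.prime_two⟩
  set C := D.L hJ ⊓ centralizer (D.L hJ : Set G) with hC
  have hxC : x ∈ C := mem_inf.2 ⟨hx, mem_centralizer_iff.2 hc⟩
  have hZC : D.Z ≤ C := le_inf (D.Z_le_L hJ) fun a ha => mem_centralizer_iff.2 fun y hy =>
    (mem_centralizer_iff.1 (D.L_le_CZ hJ hy) a ha).symm
  have hCf : D.f ∈ normalizer (C : Set G) := by
    refine le_normalizer_of_conj (fun k hk y hy => ?_) (mem_zpowers D.f)
    have hkL : k ∈ normalizer (D.L hJ : Set G) := zpowers_le.2 (D.f_normalizes_L hJ) hk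
    refine mem_inf.2 ⟨(mem_normalizer_iff.1 hkL y).1 (mem_inf.1 hy).1, mem_centralizer_iff.2 fun w hw => ?_⟩
    have := mem_centralizer_iff.1 (mem_inf.1 hy).2 _ ((mem_normalizer_iff''.1 hkL w).1 hw)
    calc w * (k * y * k⁻¹) = k * (k⁻¹ * w * k * y) * k⁻¹ := by group
      _ = _ := by rw [this]; group
  obtain ⟨k, hk, hk5, hk3⟩ := D.two_group_card hJ (inf_le_left.trans (D.L_le_CZ hJ)) hZC
    ((D.isPGroup_L hJ).to_le inf_le_left) hCf
  have hCE : C ⊓ D.E0 = D.Z := by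
    refine le_antisymm (fun a ha => ?_) (le_inf hZC (D.Z_le_E0 hJ))
    rw [← D.centralizer_E0 hJ]
    refine mem_inf.2 ⟨(mem_inf.1 (mem_inf.1 ha).2).1, mem_centralizer_iff.2 fun w hw => ?_⟩
    exact mem_centralizer_iff.1 (mem_inf.1 (mem_inf.1 ha).1).2 w (D.E0_le_L hJ hw)
  have hn : C ≤ normalizer (D.E0 : Set G) := (inf_le_left.trans (D.L_le_CZ hJ)).trans (D.CZ_normalizes_E0 hJ)
  have hs := CfsgLib.Solvable.card_sup_mul_card_inf hn
  rw [hCE, D.Z_card, hk, D.card_E0 hJ] at hs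
  have hle : Nat.card ↥(C ⊔ D.E0) ≤ 2 ^ 15 := D.card_L hJ ▸ card_le_of_le (sup_le inf_le_left (D.E0_le_L hJ))
  have hk7 : k ≤ 7 := by
    by_contra hlt
    push Not at hlt
    have : 2 ^ 8 * 2 ^ 11 ≤ 2 ^ k * 2 ^ 11 := Nat.mul_le_mul_right _ (Nat.pow_le_pow_right (by norm_num) hlt)
    norm_num at this hle hs
    omega
  rcases Dat.pow_cases hJ hk5 (by omega) with rfl | rfl | rfl | rfl
  · have hCZ : D.Z = C := eq_of_le_of_card_ge hZC (by rw [D.Z_card, hk]; norm_num)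
    exact hCZ ▸ hxC
  · exfalso
    have htop : C ⊔ D.E0 = D.L hJ := eq_of_le_of_card_ge (sup_le inf_le_left (D.E0_le_L hJ)) (by
      rw [D.card_L hJ]; norm_num at hs ⊢; omega)
    obtain ⟨g, hg, hne⟩ := D.exists_moving hJ
    obtain ⟨a, ha, b, hb, hab⟩ := D.U_noncomm hJ g
    have ha' : a ∈ C ⊔ D.E0 := htop.symm ▸ D.U_le_L hJ hg ha
    have hb' : b ∈ C ⊔ D.E0 := htop.symm ▸ D.U_le_L hJ hg hb
    obtain ⟨c, hc', e, he, rfl⟩ := (CfsgLib.Solvable.mem_sup_of_le_normalizer hn).1 ha'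
    obtain ⟨c', hc'', e', he', rfl⟩ := (CfsgLib.Solvable.mem_sup_of_le_normalizer hn).1 hb'
    have hcc : ∀ w ∈ D.L hJ, Commute c w := fun w hw => (mem_centralizer_iff.1 (mem_inf.1 hc').2 w hw).symm
    have hcc' : ∀ w ∈ D.L hJ, Commute c' w := fun w hw => (mem_centralizer_iff.1 (mem_inf.1 hc'').2 w hw).symm
    have heL := D.E0_le_L hJ he
    have heL' := D.E0_le_L hJ he'
    have : c * e * (c' * e') * (c * e)⁻¹ * (c' * e')⁻¹ = e * e' * e⁻¹ * e'⁻¹ := by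
      calc c * e * (c' * e') * (c * e)⁻¹ * (c' * e')⁻¹
          = c * (e * (c' * e') * e⁻¹) * c⁻¹ * (c' * e')⁻¹ := by group
        _ = e * (c' * e') * e⁻¹ * (c' * e')⁻¹ := by
            rw [(hcc _ (mul_mem (mul_mem heL (mul_mem (mem_inf.1 hc'').1 heL')) (inv_mem heL))).eq,
              mul_inv_cancel_right]
        _ = (e * c') * (e' * e⁻¹ * e'⁻¹) * c'⁻¹ := by group
        _ = (c' * e) * (e' * e⁻¹ * e'⁻¹) * c'⁻¹ := by rw [(hcc' e heL).eq]
        _ = c' * (e * e' * e⁻¹ * e'⁻¹) * c'⁻¹ := by group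
        _ = e * e' * e⁻¹ * e'⁻¹ := by
            rw [(hcc' _ (mul_mem (mul_mem (mul_mem heL heL') (inv_mem heL)) (inv_mem heL'))).eq,
              mul_inv_cancel_right]
    rw [this] at hab
    rcases (gen_E hJ).comm e (mem_inf.1 he).1 e' (mem_inf.1 he').1 with h | h <;> rw [h] at hab
    · exact z_ne_one hJ (conj_eq_one_iff.1 hab.symm)
    · exact hne hab.symm
  · omega
  · omega

theorem Dat.center_L_eq : Subgroup.center ↥(D.L hJ) = D.Z.subgroupOf (D.L hJ) := by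
  ext x
  rw [mem_center_iff, mem_subgroupOf]
  exact ⟨fun h => D.center_L hJ x.2 fun y hy => congrArg Subtype.val (h ⟨y, hy⟩),
    fun h y => Subtype.ext (mem_centralizer_iff.1 (D.L_le_CZ hJ y.2) _ h).symm⟩

theorem Dat.card_center_L : Nat.card ↥(Subgroup.center ↥(D.L hJ)) = 8 := by
  rw [D.center_L_eq hJ, Nat.card_congr (subgroupOfEquivOfLe (D.Z_le_L hJ)).toEquiv, D.Z_card]

theorem Dat.special_L : Cfsg.IsSpecial 2 ↥(D.L hJ) := by
  haveI : Fact (Nat.Prime 2) := ⟨Nat.prime_two⟩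
  have hcle : _root_.commutator ↥(D.L hJ) ≤ center ↥(D.L hJ) := by
    rw [_root_.commutator_def, commutator_le]
    intro a _ b _
    rw [D.center_L_eq hJ, mem_subgroupOf, commutatorElement_def]
    exact D.L_comm hJ a.2 b.2
  have hder : _root_.commutator ↥(D.L hJ) = center ↥(D.L hJ) := by
    refine le_antisymm hcle fun x hx => ?_
    rw [D.center_L_eq hJ, mem_subgroupOf] at hx
    by_cases hx1 : (x : G) = 1
    · rw [show x = 1 from Subtype.ext hx1]; exact one_mem _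
    obtain ⟨g, hg, hgx⟩ := D.transitive hJ hx hx1
    obtain ⟨a, ha, b, hb, hab⟩ := D.U_noncomm hJ g
    have hx' : x = ⁅(⟨a, D.U_le_L hJ hg ha⟩ : ↥(D.L hJ)), ⟨b, D.U_le_L hJ hg hb⟩⁆ := by
      apply Subtype.ext
      rw [commutatorElement_def]
      exact (hab.trans hgx).symm
    rw [hx']
    exact commutator_mem_commutator (mem_top _) (mem_top _)
  refine ⟨D.isPGroup_L hJ, le_antisymm ?_ ?_, hder⟩
  · refine CfsgLib.PGroupBasic.frattini_le_of_elementary (p := 2) _ hder.le fun x => ?_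
    rw [D.center_L_eq hJ, mem_subgroupOf, Subgroup.coe_pow, pow_two]
    exact D.L_sq hJ x.2
  · rw [← hder]
    exact (CfsgLib.PGroupBasic.commutator_pow_le_frattini (D.isPGroup_L hJ)).1

theorem Dat.normalizer_L : normalizer (D.L hJ : Set G) = D.Mn := by
  refine le_antisymm (fun g hg => mem_normalizer_iff_map_conj_eq.2 (eq_of_le_of_card_ge ?_ ?_)) fun n hn => ?_
  · rintro _ ⟨a, ha, rfl⟩
    refine D.center_L hJ ((mem_normalizer_iff.1 hg a).1 (D.Z_le_L hJ ha)) fun y hy => ?_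
    have := (mem_centralizer_iff.1 (D.L_le_CZ hJ ((mem_normalizer_iff''.1 hg y).1 hy)) a ha).symm
    show y * (g * a * g⁻¹) = g * a * g⁻¹ * y
    calc y * (g * a * g⁻¹) = g * (g⁻¹ * y * g * a) * g⁻¹ := by group
      _ = _ := by rw [this]; group
  · rw [card_map_of_injective (MulAut.conj g).injective]
  · have hconj : ∀ m ∈ D.Mn, ∀ x ∈ D.CZ, m * x * m⁻¹ ∈ D.CZ := fun m hm x hx => by
      refine mem_centralizer_iff.2 fun a ha => ?_
      have := mem_centralizer_iff.1 hx _ ((mem_normalizer_iff''.1 hm a).1 ha)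
      calc a * (m * x * m⁻¹) = m * (m⁻¹ * a * m * x) * m⁻¹ := by group
        _ = _ := by rw [this]; group
    refine mem_normalizer_iff_map_conj_eq.2 (eq_of_le_of_card_ge ?_
      (by rw [card_map_of_injective (MulAut.conj n).injective]))
    refine D.le_L hJ (by rintro _ ⟨x, hx, rfl⟩; exact hconj n hn x (D.L_le_CZ hJ hx))
      ((D.isPGroup_L hJ).map _) (le_normalizer_of_conj ?_)
    rintro k hk _ ⟨x, hx, rfl⟩
    refine ⟨_, (mem_normalizer_iff.1 (D.CZ_normalizes_L hJ (hconj n⁻¹ (inv_mem hn) k hk)) x).1 hx, ?_⟩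
    show n * (n⁻¹ * k * n⁻¹⁻¹ * x * (n⁻¹ * k * n⁻¹⁻¹)⁻¹) * n⁻¹ = k * (n * x * n⁻¹) * k⁻¹
    group

end CfsgLib.J4Pentad
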