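/-
Janko-four type, the pentad 2-local subgroup: the quotient by the radical is `S₅ × L₃(2)`.
-/
import Cfsg.Agent.J4Local.Pentad.Rad
import Cfsg.Agent.SimplePower.SymIndex
import Cfsg.Agent.S5945

set_option autoImplicit false
set_option linter.style.haveILetI false
set_option linter.unusedSectionVars false

namespace CfsgLib.J4Pentad

open Subgroup CfsgLib.J4Local CfsgLib.J4Local.M22Elem CfsgLib.J4Local.FixMod

abbrev S5 := Equiv.Perm (Fin 5)

theorem center_S5 : ∀ σ : S5, (∀ τ : S5, τ * σ = σ * τ) → σ = 1 := by decide +kernel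

/-- Every automorphism of `S₅` is inner. -/
theorem aut_S5 (φ : MulAut S5) : ∃ σ : S5, ∀ g, φ g = σ * g * σ⁻¹ := by
  classical
  have hsw : ∀ s : S5, s.IsSwap → (φ s).IsSwap := fun s hs =>
    CfsgLib.SymIndex.isSwap_map φ (by simp) (by simp) rfl hs
  choose π hπ using fun p => CfsgLib.SymIndex.comap_stabilizer φ (by simp) rfl hsw p
  have hmem : ∀ p g, φ g p = p ↔ g (π p) = π p := fun p g => by
    have := SetLike.ext_iff.1 (hπ p) g
    exact this
  have hinj : ∀ a b : Fin 5, a ≠ b → ∃ g : S5, g a = a ∧ g b ≠ b := by decide +kernel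
  have hπinj : Function.Injective π := fun p q h => by
    by_contra hne
    obtain ⟨g, hga, hgb⟩ := hinj p q hne
    have h1 := (hmem p (φ.symm g)).1 (by rw [φ.apply_symm_apply]; exact hga)
    rw [h, ← hmem q, φ.apply_symm_apply] at h1
    exact hgb h1
  let e : S5 := Equiv.ofBijective π (Finite.injective_iff_bijective.1 hπinj)
  have key : ∀ g p, π (φ g p) = g (π p) := by
    intro g p
    by_contra hne
    obtain ⟨t, ht1, ht2⟩ := hinj _ _ hne
    have h1 := (hmem (φ g p) t).2 ht1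
    have h2 : φ (g⁻¹ * t * g) p = p := by
      rw [map_mul, map_mul, map_inv, Equiv.Perm.mul_apply, Equiv.Perm.mul_apply, h1]
      simp
    have h3 := (hmem p _).1 h2
    rw [Equiv.Perm.mul_apply, Equiv.Perm.mul_apply, Equiv.Perm.inv_eq_iff_eq] at h3
    exact ht2 h3
  refine ⟨e⁻¹, fun g => Equiv.ext fun p => ?_⟩
  rw [Equiv.Perm.mul_apply, Equiv.Perm.mul_apply, inv_inv, Equiv.Perm.eq_inv_iff_eq]
  exact key g p

/-- A group of order 120 without normal Sylow 5-subgroup and without normal 2-subgroup is `S₅`. -/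
theorem iso_S5 {X : Type*} [Group X] [Finite X] (hX : Nat.card X = 120)
    (h5n : ∀ S : Sylow 5 X, ¬ (S : Subgroup X).Normal)
    (h2n : ∀ K : Subgroup X, K.Normal → Nat.card K ∣ 4 → K = ⊥) : Nonempty (X ≃* S5) := by
  classical
  haveI : Fact (Nat.Prime 5) := ⟨by norm_num⟩
  obtain ⟨S⟩ : Nonempty (Sylow 5 X) := inferInstance
  have hS : ∀ T : Sylow 5 X, Nat.card (T : Subgroup X) = 5 := fun T => by
    rw [Sylow.card_eq_multiplicity, hX, show (120 : ℕ) = 5 ^ 1 * 24 from rfl,
      Nat.factorization_mul (by norm_num) (by norm_num), Finsupp.add_apply,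
      (Fact.out : Nat.Prime 5).factorization_pow, Finsupp.single_eq_same,
      Nat.factorization_eq_zero_of_not_dvd (by norm_num), add_zero, pow_one]
  have hn : Nat.card (Sylow 5 X) = 6 := by
    have h24 : Nat.card (Sylow 5 X) ∣ 24 := by
      have h := Sylow.card_dvd_index S
      have hi := (S : Subgroup X).card_mul_index
      rw [hS, hX] at hi
      rwa [show (S : Subgroup X).index = 24 by omega] at h
    have hm := card_sylow_modEq_one 5 X
    have key : ∀ n ∈ Nat.divisors 24, n % 5 = 1 → n = 1 ∨ n = 6 := by decide +kernel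
    refine (key _ (Nat.mem_divisors.2 ⟨h24, by norm_num⟩) hm).resolve_left fun h1 => ?_
    haveI : Subsingleton (Sylow 5 X) := (Nat.card_eq_one_iff_unique.1 h1).1
    exact h5n S (Sylow.normal_of_subsingleton S)
  let act : X →* Equiv.Perm (Sylow 5 X) := MulAction.toPermHom X (Sylow 5 X)
  have hNS : ∀ T : Sylow 5 X, Nat.card (normalizer ((T : Subgroup X) : Set X)) = 20 := by
    intro T
    have h := (normalizer ((T : Subgroup X) : Set X)).card_mul_index
    have h2 := hn
    rw [Sylow.card_eq_index_normalizer T] at h2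
    have h3 : (normalizer ((T : Subgroup X) : Set X)).index = 6 := h2
    rw [h3, hX] at h
    omega
  have hker : act.ker = ⊥ := by
    have hKle : ∀ T : Sylow 5 X, act.ker ≤ normalizer ((T : Subgroup X) : Set X) := fun T x hx => by
      have : x • T = T := congrArg (fun σ : Equiv.Perm (Sylow 5 X) => σ T) (MonoidHom.mem_ker.1 hx)
      exact Sylow.smul_eq_iff_mem_normalizer.1 this
    have hK20 : Nat.card act.ker ∣ 20 := hNS S ▸ card_dvd_of_le (hKle S)
    have hK5 : ¬ 5 ∣ Nat.card act.ker := by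
      intro h5
      obtain ⟨⟨x, hxK⟩, hx⟩ := exists_prime_orderOf_dvd_card' 5 h5
      rw [orderOf_mk] at hx
      have hin : ∀ T : Sylow 5 X, x ∈ (T : Subgroup X) := fun T => by
        have hp : IsPGroup 5 ↥(zpowers x) :=
          IsPGroup.of_card (n := 1) (by rw [Nat.card_zpowers, hx, pow_one])
        have hle : zpowers x ≤ normalizer ((T : Subgroup X) : Set X) := zpowers_le.2 (hKle T hxK)
        have hs := hp.to_sup_of_normal_right' T.isPGroup' hle
        exact (T.is_maximal' hs le_sup_right).le (mem_sup_left (mem_zpowers x))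
      have hone : ∀ T : Sylow 5 X, (T : Subgroup X) = zpowers x := fun T => by
        refine (eq_of_le_of_card_ge (zpowers_le.2 (hin T)) ?_).symm
        rw [Nat.card_zpowers, hx, hS]
      haveI : Subsingleton (Sylow 5 X) := ⟨fun A B => Sylow.ext ((hone A).trans (hone B).symm)⟩
      have := Nat.card_unique (α := Sylow 5 X)
      omega
    exact h2n _ inferInstance ((((Fact.out : Nat.Prime 5).coprime_iff_not_dvd.2 hK5).symm).dvd_of_dvd_mul_left
        (show Nat.card act.ker ∣ 5 * 4 from hK20))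
  have e6 : Sylow 5 X ≃ Fin 6 := (Nat.equivFinOfCardPos (by rw [hn]; norm_num)).trans (finCongr hn)
  let act' : X →* Equiv.Perm (Fin 6) := (e6.permCongrHom).toMonoidHom.comp act
  have hinj : Function.Injective act' := e6.permCongrHom.injective.comp ((MonoidHom.ker_eq_bot_iff act).1 hker)
  have hidx : act'.range.index = 6 := by
    have h := act'.range.card_mul_index
    rw [← Nat.card_congr (MonoidHom.ofInjective hinj).toEquiv, hX, Nat.card_perm, Nat.card_eq_fintype_card,
      Fintype.card_fin] at h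
    norm_num [Nat.factorial] at h
    omega
  obtain ⟨e⟩ := (Cfsg.Agent.S5945.result).2.1 act'.range hidx
  exact ⟨(MonoidHom.ofInjective hinj).trans e⟩

variable {G : Type*} [Group G] [Finite G] {z : G} {P : Subgroup G} (D : Dat z P)

/-- The normaliser of `⟨f⟩`. -/
abbrev Dat.Nf : Subgroup G := normalizer ((zpowers D.f : Subgroup G) : Set G)

theorem Dat.J_le_Nf : D.J ≤ D.Nf := le_normalizer_of_conj fun j hj x hx => by
  rwa [← (D.f_comm_J hx hj).eq, mul_inv_cancel_right]

variable (hJ : Cfsg.IsOfJankoFourTypeWith z P)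

include hJ

theorem Dat.card_Nf_CZ : Nat.card ↥(D.Nf ⊓ D.CZ) = 160 := by
  obtain ⟨ψ, -, hk, hψJ⟩ := D.exists_psi hJ
  let ψ' := ψ.comp (inclusion D.normalizer_f_le)
  have hs : Function.Surjective ψ' := fun a => by
    obtain ⟨j, hj⟩ := hψJ a
    exact ⟨⟨j, D.J_le_Nf j.2⟩, hj⟩
  have hk' : ψ'.ker = D.CZ.subgroupOf D.Nf := by
    show (ψ.comp _).ker = _
    rw [← MonoidHom.comap_ker, hk]
    rfl
  have h := ψ'.ker.card_mul_index
  rw [index_ker, MonoidHom.range_eq_top.2 hs, card_top, card_SL32, D.card_N, hk',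
    ← card_map_of_injective D.Nf.subtype_injective, subgroupOf_map_subtype, inf_comm] at h
  omega

theorem Dat.card_Nf_L : 8 ≤ Nat.card ↥(D.Nf ⊓ D.L hJ) :=
  D.Z_card ▸ card_le_of_le (le_inf (fun a ha => D.J_le_Nf (D.Z_le ha)) (D.Z_le_L hJ))

instance Dat.normal_L : ((D.L hJ).subgroupOf D.CZ).Normal :=
  (normal_subgroupOf_iff_le_normalizer (D.L_le_CZ hJ)).2 (D.CZ_normalizes_L hJ)

/-- `C(Z) / L ≅ S₅`. -/
theorem Dat.exists_rho :
    ∃ ρ : ↥D.CZ →* S5, Function.Surjective ρ ∧ ρ.ker = (D.L hJ).subgroupOf D.CZ := by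
  classical
  haveI : Fact (Nat.Prime 5) := ⟨by norm_num⟩
  haveI : Fact (Nat.Prime 2) := ⟨Nat.prime_two⟩
  set N0 := (D.L hJ).subgroupOf D.CZ with hN0
  let π := QuotientGroup.mk' N0
  let X := ↥D.CZ ⧸ N0
  have hNc : Nat.card N0 = 2 ^ 15 := by
    rw [hN0, Nat.card_congr (subgroupOfEquivOfLe (D.L_le_CZ hJ)).toEquiv, D.card_L hJ]
  have hX : Nat.card X = 120 := by
    have h := N0.card_mul_index
    rw [hNc, D.card_CZ hJ, index_eq_card] at h
    show Nat.card (↥D.CZ ⧸ N0) = 120
    norm_num at h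
    omega
  have h5n : ∀ S : Sylow 5 X, ¬ (S : Subgroup X).Normal := by
    intro S hSn
    have hS : Nat.card (S : Subgroup X) = 5 := by
      rw [Sylow.card_eq_multiplicity, hX, show (120 : ℕ) = 5 ^ 1 * 24 from rfl,
        Nat.factorization_mul (by norm_num) (by norm_num), Finsupp.add_apply,
        (Fact.out : Nat.Prime 5).factorization_pow, Finsupp.single_eq_same,
        Nat.factorization_eq_zero_of_not_dvd (by norm_num), add_zero, pow_one]
    set T := (S : Subgroup X).comap π with hT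
    have hTc : Nat.card T = 5 * 2 ^ 15 := by
      have h := T.card_mul_index
      rw [hT, index_comap_of_surjective _ (QuotientGroup.mk'_surjective N0), D.card_CZ hJ] at h
      have hi := (S : Subgroup X).card_mul_index
      rw [hS, hX] at hi
      rw [show (S : Subgroup X).index = 24 by omega] at h
      rw [hT]
      norm_num at h ⊢
      omega
    let fc : ↥D.CZ := ⟨D.f, D.f_mem_CZ hJ⟩
    have hfc : orderOf fc = 5 := (orderOf_mk D.f _).trans D.f_ord
    have hfT : fc ∈ T := by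
      have h1 : (π fc) ^ 5 = 1 := by rw [← map_pow, ← hfc, pow_orderOf_eq_one, map_one]
      have hp : IsPGroup 5 ↥(zpowers (π fc)) := by
        intro x
        refine ⟨1, ?_⟩
        obtain ⟨i, hi⟩ := x.2
        apply Subtype.ext
        show (x : X) ^ (5 ^ 1) = 1
        rw [← hi, pow_one]
        show (π fc ^ i) ^ 5 = 1
        rw [← zpow_natCast, ← zpow_mul, mul_comm, zpow_mul, zpow_natCast, h1, one_zpow]
      haveI := hSn
      haveI := Sylow.unique_of_normal S hSn
      obtain ⟨S', hS'⟩ := hp.exists_le_sylow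
      rw [Subsingleton.elim S' S] at hS'
      exact hS' (mem_zpowers _)
    let Q : Sylow 5 ↥T := Sylow.ofCard (zpowers (⟨fc, hfT⟩ : ↥T)) (by
      rw [Nat.card_zpowers, orderOf_mk, hfc, hTc, Nat.factorization_mul (by norm_num) (by norm_num),
        Finsupp.add_apply, (Fact.out : Nat.Prime 5).factorization_self,
        Nat.factorization_eq_zero_of_not_dvd (by norm_num), add_zero, pow_one])
    have hfr := Sylow.normalizer_sup_eq_top Q
    have hle : normalizer (((Q : Subgroup ↥T).map T.subtype : Subgroup ↥D.CZ) : Set ↥D.CZ) ≤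
        D.Nf.subgroupOf D.CZ := by
      intro n hn
      rw [show ((Q : Subgroup ↥T).map T.subtype) = zpowers fc from MonoidHom.map_zpowers _ _] at hn
      have h := (mem_normalizer_iff.1 hn fc).1 (mem_zpowers fc)
      obtain ⟨i, hi⟩ := h
      refine mem_subgroupOf.2 (mem_normalizer_iff_map_conj_eq.2 (eq_of_le_of_card_ge ?_ ?_))
      · rw [MonoidHom.map_zpowers]
        exact zpowers_le.2 ⟨i, by simpa using congrArg Subtype.val hi⟩
      · rw [card_map_of_injective (MulAut.conj (n : G)).injective]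
    have hTle : T ≤ zpowers fc ⊔ N0 := by
      have hnn : zpowers fc ≤ normalizer (N0 : Set ↥D.CZ) := by
        rw [normalizer_eq_top_iff.2 inferInstance]; exact le_top
      have hd : zpowers fc ⊓ N0 = ⊥ :=
        inf_eq_bot_of_coprime (by rw [Nat.card_zpowers, hfc, hNc]; decide)
      refine (eq_of_le_of_card_ge (sup_le (zpowers_le.2 hfT) ?_) ?_).ge
      · intro x hx
        show π x ∈ (S : Subgroup X)
        have h1 : π x = 1 := (QuotientGroup.eq_one_iff x).2 hx
        rw [h1]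
        exact one_mem _
      · rw [CfsgLib.Solvable.card_sup_of_disjoint hnn hd, Nat.card_zpowers, hfc, hNc, hTc]
    have hall : D.Nf.subgroupOf D.CZ ⊔ N0 = ⊤ := by
      rw [eq_top_iff, ← hfr]
      refine sup_le (hle.trans le_sup_left) (hTle.trans (sup_le (zpowers_le.2 (mem_sup_left ?_)) le_sup_right))
      exact mem_subgroupOf.2 (le_normalizer (mem_zpowers D.f))
    have hn' : D.Nf.subgroupOf D.CZ ≤ normalizer (N0 : Set ↥D.CZ) := by
      rw [normalizer_eq_top_iff.2 inferInstance]; exact le_top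
    have h := CfsgLib.Solvable.card_sup_mul_card_inf hn'
    have hi : Nat.card ↥(D.Nf.subgroupOf D.CZ ⊓ N0) = Nat.card ↥(D.Nf ⊓ D.L hJ) := by
      rw [hN0, ← card_map_of_injective D.CZ.subtype_injective, map_inf _ _ _ D.CZ.subtype_injective,
        subgroupOf_map_subtype, subgroupOf_map_subtype,
        inf_eq_left.2 (D.L_le_CZ hJ), inf_assoc, inf_eq_right.2 (D.L_le_CZ hJ)]
    have ha : Nat.card ↥(D.Nf.subgroupOf D.CZ) = 160 := by
      rw [← card_map_of_injective D.CZ.subtype_injective, subgroupOf_map_subtype, D.card_Nf_CZ hJ]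
    rw [hall, card_top, D.card_CZ hJ, hNc, hi, ha] at h
    have h8 := D.card_Nf_L hJ
    norm_num at h
    omega
  have h2n : ∀ K : Subgroup X, K.Normal → Nat.card K ∣ 4 → K = ⊥ := by
    intro K hK hK4
    set T := (K.comap π).map D.CZ.subtype with hT
    have hT2 : IsPGroup 2 T := by
      refine IsPGroup.map ?_ D.CZ.subtype
      have h := (K.comap π).card_mul_index
      rw [index_comap_of_surjective _ (QuotientGroup.mk'_surjective N0), D.card_CZ hJ] at h
      have hi := K.card_mul_index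
      rw [hX] at hi
      have hd : Nat.card ↥(K.comap π) ∣ 2 ^ 17 := by
        have hpos : 0 < K.index := Nat.pos_of_ne_zero K.index_ne_zero_of_finite
        have e : Nat.card ↥(K.comap π) = 2 ^ 15 * Nat.card K := by
          apply Nat.eq_of_mul_eq_mul_right hpos
          rw [h, mul_assoc, hi]
          norm_num
        rw [e, show (2 : ℕ) ^ 17 = 2 ^ 15 * 4 by norm_num]
        exact Nat.mul_dvd_mul_left _ hK4
      obtain ⟨k, -, hk⟩ := (Nat.dvd_prime_pow Nat.prime_two).1 hd
      exact IsPGroup.of_card hk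
    have hTn : D.CZ ≤ normalizer (T : Set G) := by
      refine le_normalizer_of_conj ?_
      rintro k hk _ ⟨y, hy, rfl⟩
      exact ⟨⟨k, hk⟩ * y * ⟨k, hk⟩⁻¹, (hK.comap π).conj_mem y hy ⟨k, hk⟩, rfl⟩
    have hTL := D.le_L hJ (map_subtype_le _) hT2 hTn
    refine (eq_bot_iff_forall _).2 fun x hx => ?_
    obtain ⟨c, rfl⟩ := QuotientGroup.mk'_surjective N0 x
    exact (QuotientGroup.eq_one_iff c).2 (mem_subgroupOf.2 (hTL ⟨c, hx, rfl⟩))
  obtain ⟨e⟩ := iso_S5 hX h5n h2n
  refine ⟨e.toMonoidHom.comp π, e.surjective.comp (QuotientGroup.mk'_surjective N0), ?_⟩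
  ext c
  rw [MonoidHom.mem_ker, MonoidHom.comp_apply, MulEquiv.coe_toMonoidHom, MulEquiv.map_eq_one_iff]
  exact QuotientGroup.eq_one_iff c

theorem Dat.conj_CZ {m x : G} (hm : m ∈ D.Mn) (hx : x ∈ D.CZ) : m * x * m⁻¹ ∈ D.CZ := by
  refine mem_centralizer_iff.2 fun a ha => ?_
  have := mem_centralizer_iff.1 hx _ ((mem_normalizer_iff''.1 hm a).1 ha)
  calc a * (m * x * m⁻¹) = m * (m⁻¹ * a * m * x) * m⁻¹ := by group
    _ = _ := by rw [this]; group

theorem Dat.L_le_Mn : D.L hJ ≤ D.Mn := (D.L_le_CZ hJ).trans D.CZ_le_Mn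

/-- The map of the normaliser of `Z` onto `S₅ × SL(3,2)`, with kernel `L`. -/
theorem Dat.exists_Phi : ∃ Φ : ↥D.Mn →* S5 × SL32, Function.Surjective Φ ∧
    Φ.ker = (D.L hJ).subgroupOf D.Mn ∧ (∀ x : ↥D.Mn, (x : G) ∈ D.CZ ↔ (Φ x).2 = 1) ∧
    Function.Surjective (fun j : ↥D.J => (Φ (inclusion D.J_le_normalizer j)).2) := by
  classical
  obtain ⟨ρ, hρ, hρk⟩ := D.exists_rho hJ
  obtain ⟨ψ, hψ, hψk, hψJ⟩ := D.exists_psi hJ
  let cj : ∀ n : ↥D.Mn, ↥D.CZ →* ↥D.CZ := fun n =>
    { toFun := fun c => ⟨n * c * (n : G)⁻¹, D.conj_CZ hJ n.2 c.2⟩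
      map_one' := Subtype.ext (by simp)
      map_mul' := fun a b => Subtype.ext (by simp only [Subgroup.coe_mul]; group) }
  have hex : ∀ n : ↥D.Mn, ∃ σ : S5, ∀ c : ↥D.CZ, ρ (cj n c) = σ * ρ c * σ⁻¹ := by
    intro n
    have hker : ρ.ker ≤ (ρ.comp (cj n)).ker := by
      rw [hρk]
      intro c hc
      rw [MonoidHom.mem_ker, MonoidHom.comp_apply, ← MonoidHom.mem_ker, hρk, mem_subgroupOf]
      have hn : (n : G) ∈ normalizer (D.L hJ : Set G) := by rw [D.normalizer_L hJ]; exact n.2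
      exact (mem_normalizer_iff.1 hn _).1 hc
    let φ : S5 →* S5 := ρ.liftOfSurjective hρ ⟨ρ.comp (cj n), hker⟩
    have hφ : ∀ c, φ (ρ c) = ρ (cj n c) := fun c =>
      MonoidHom.liftOfRightInverse_comp_apply _ _ _ _ c
    have hsurj : Function.Surjective φ := fun s => by
      obtain ⟨c, rfl⟩ := hρ s
      refine ⟨ρ ⟨(n : G)⁻¹ * c * n, ?_⟩, ?_⟩
      · have := D.conj_CZ hJ (inv_mem n.2) c.2
        rwa [inv_inv] at this
      · rw [hφ]
        exact congrArg ρ (Subtype.ext (show (n : G) * ((n : G)⁻¹ * c * n) * (n : G)⁻¹ = c by group))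
    obtain ⟨σ, hσ⟩ := aut_S5 (MulEquiv.ofBijective φ (Finite.surjective_iff_bijective.1 hsurj))
    refine ⟨σ, fun c => ?_⟩
    rw [← hφ]
    exact hσ (ρ c)
  choose σ hσ using hex
  have huniq : ∀ (n : ↥D.Mn) (τ : S5), (∀ c : ↥D.CZ, ρ (cj n c) = τ * ρ c * τ⁻¹) → σ n = τ := by
    intro n τ hτ
    refine (inv_mul_eq_one.1 (center_S5 _ fun s => ?_)).symm
    obtain ⟨c, rfl⟩ := hρ s
    have h := (hσ n c).symm.trans (hτ c)
    calc ρ c * (τ⁻¹ * σ n) = τ⁻¹ * (τ * ρ c * τ⁻¹) * σ n := by group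
      _ = τ⁻¹ * σ n * ρ c := by rw [← h]; group
  let ψ2 : ↥D.Mn →* S5 := MonoidHom.mk' σ fun a b => huniq _ _ fun c => by
    rw [show cj (a * b) c = cj a (cj b c) from Subtype.ext (by simp [cj]; group), hσ, hσ]
    group
  have hσC : ∀ c : ↥D.CZ, ψ2 (inclusion D.CZ_le_Mn c) = ρ c := fun c => huniq _ _ fun d => by
    rw [← map_inv, ← map_mul, ← map_mul]
    rfl
  refine ⟨ψ2.prod ψ, ?_, ?_, ?_, hψJ⟩
  · rintro ⟨s, a⟩
    obtain ⟨m, hm⟩ := hψ a
    obtain ⟨c, hc⟩ := hρ (s * (ψ2 m)⁻¹)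
    refine ⟨inclusion D.CZ_le_Mn c * m, Prod.ext ?_ ?_⟩
    · show ψ2 _ = s
      rw [map_mul, hσC, hc, inv_mul_cancel_right]
    · show ψ _ = a
      have : inclusion D.CZ_le_Mn c ∈ ψ.ker := by rw [hψk, mem_subgroupOf]; exact c.2
      rw [map_mul, MonoidHom.mem_ker.1 this, one_mul, hm]
  · ext m
    rw [MonoidHom.mem_ker, mem_subgroupOf]
    constructor
    · intro h
      have h1 : m ∈ ψ.ker := congrArg Prod.snd h
      rw [hψk, mem_subgroupOf] at h1
      have h2 : ψ2 m = 1 := congrArg Prod.fst h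
      rw [show m = inclusion D.CZ_le_Mn ⟨m, h1⟩ from rfl, hσC, ← MonoidHom.mem_ker, hρk, mem_subgroupOf] at h2
      exact h2
    · intro h
      have h1 : (m : G) ∈ D.CZ := D.L_le_CZ hJ h
      refine Prod.ext ?_ ?_
      · show ψ2 m = 1
        rw [show m = inclusion D.CZ_le_Mn ⟨m, h1⟩ from rfl, hσC, ← MonoidHom.mem_ker, hρk, mem_subgroupOf]
        exact h
      · show m ∈ ψ.ker
        rw [hψk, mem_subgroupOf]
        exact h1
  · intro m
    show _ ↔ m ∈ ψ.ker
    rw [hψk, mem_subgroupOf]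

end CfsgLib.J4Pentad
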