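/-
Janko-four type, the pentad 2-local subgroup: the radical has no complement, and the normalisers of a Sylow
5-subgroup and of a Sylow 7-subgroup lie in the local subgroup, with a subgroup `S₅`.
-/
import Cfsg.Agent.J4Local.Pentad.Quot

set_option autoImplicit false
set_option linter.style.haveILetI false
set_option linter.unusedSectionVars false

namespace CfsgLib.J4Pentad

open Subgroup CfsgLib.J4Local CfsgLib.J4Local.M22Elem CfsgLib.J4Local.FixMod

/-- An element normalising the image of a cyclic group of odd prime order lifts, over a 2-group kernel,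
to an element normalising that cyclic group. -/
theorem exists_lift {A B : Type*} [Group A] [Finite A] [Group B] (Φ : A →* B) (hk : IsPGroup 2 Φ.ker)
    {p : ℕ} [Fact p.Prime] (hp2 : p ≠ 2) {x : A} (hx : orderOf x = p) {n : A}
    (hn : Φ n * Φ x * (Φ n)⁻¹ ∈ zpowers (Φ x)) :
    ∃ m, Φ m = Φ n ∧ m ∈ normalizer ((zpowers x : Subgroup A) : Set A) := by
  haveI : Fact (Nat.Prime 2) := ⟨Nat.prime_two⟩
  set T := zpowers x ⊔ Φ.ker with hT
  have hnn : zpowers x ≤ normalizer (Φ.ker : Set A) := by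
    rw [normalizer_eq_top_iff.2 inferInstance]; exact le_top
  obtain ⟨k, hkc⟩ := IsPGroup.iff_card.1 hk
  have hcop : Nat.Coprime p 2 :=
    (Fact.out : p.Prime).coprime_iff_not_dvd.2 fun h => hp2 ((Nat.prime_dvd_prime_iff_eq Fact.out Nat.prime_two).1 h)
  have hd : zpowers x ⊓ Φ.ker = ⊥ :=
    inf_eq_bot_of_coprime (by rw [Nat.card_zpowers, hx, hkc]; exact hcop.pow_right k)
  have hTc : Nat.card T = p * 2 ^ k := by
    rw [hT, CfsgLib.Solvable.card_sup_of_disjoint hnn hd, Nat.card_zpowers, hx, hkc]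
  have hxT : x ∈ T := mem_sup_left (mem_zpowers x)
  have hfac : (Nat.card ↥T).factorization p = 1 := by
    rw [hTc, Nat.factorization_mul (Fact.out : p.Prime).ne_zero (by positivity), Finsupp.add_apply,
      (Fact.out : p.Prime).factorization_self, Nat.factorization_eq_zero_of_not_dvd, add_zero]
    exact fun h => hp2 ((Nat.prime_dvd_prime_iff_eq Fact.out Nat.prime_two).1
      ((Fact.out : p.Prime).dvd_of_dvd_pow h))
  have hyT : n * x * n⁻¹ ∈ T := by
    obtain ⟨i, hi⟩ := hn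
    have hi' : Φ x ^ i = Φ n * Φ x * (Φ n)⁻¹ := hi
    rw [show n * x * n⁻¹ = x ^ i * ((x ^ i)⁻¹ * (n * x * n⁻¹)) by group]
    refine mul_mem (mem_sup_left (zpow_mem (mem_zpowers x) i)) (mem_sup_right ?_)
    rw [MonoidHom.mem_ker, map_mul, map_inv, map_zpow, map_mul, map_mul, map_inv, ← hi', inv_mul_cancel]
  let Sx : Sylow p ↥T := Sylow.ofCard (zpowers (⟨x, hxT⟩ : ↥T))
    (by rw [Nat.card_zpowers, orderOf_mk, hx, hfac, pow_one])
  let Sy : Sylow p ↥T := Sylow.ofCard (zpowers (⟨n * x * n⁻¹, hyT⟩ : ↥T))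
    (by rw [Nat.card_zpowers, orderOf_mk, show orderOf (n * x * n⁻¹) = orderOf x from
      MulEquiv.orderOf_eq (MulAut.conj n) x, hx, hfac, pow_one])
  obtain ⟨⟨t, ht⟩, hts⟩ := MulAction.exists_smul_eq ↥T Sy Sx
  obtain ⟨q, hq, l, hl, rfl⟩ := (CfsgLib.Solvable.mem_sup_of_le_normalizer hnn).1 ht
  have hmem : (⟨q * l, ht⟩ : ↥T) * ⟨n * x * n⁻¹, hyT⟩ * (⟨q * l, ht⟩ : ↥T)⁻¹ ∈ (Sx : Subgroup ↥T) := by
    rw [← hts]
    exact ⟨⟨n * x * n⁻¹, hyT⟩, mem_zpowers _, rfl⟩
  obtain ⟨i, hi⟩ := hmem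
  have hi' : x ^ i = q * l * (n * x * n⁻¹) * (q * l)⁻¹ := by simpa using congrArg Subtype.val hi
  refine ⟨l * n, by rw [map_mul, MonoidHom.mem_ker.1 hl, one_mul], ?_⟩
  have hconj : l * n * x * (l * n)⁻¹ ∈ zpowers x := by
    rw [show l * n * x * (l * n)⁻¹ = q⁻¹ * (q * l * (n * x * n⁻¹) * (q * l)⁻¹) * q by group, ← hi']
    exact mul_mem (mul_mem (inv_mem hq) (zpow_mem (mem_zpowers x) i)) hq
  refine mem_normalizer_iff_map_conj_eq.2 (eq_of_le_of_card_ge ?_ ?_)
  · rw [MonoidHom.map_zpowers]; exact zpowers_le.2 hconj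
  · rw [card_map_of_injective (MulAut.conj (l * n)).injective]

/-- The normaliser of an element of order seven in SL(3,2) has order 21. -/
theorem card_normalizer_seven_SL {a : SL32} (ha : orderOf a = 7) :
    Nat.card ↥(normalizer ((zpowers a : Subgroup SL32) : Set SL32)) = 21 := by
  haveI : Fact (Nat.Prime 7) := ⟨by norm_num⟩
  haveI := simple_SL32
  let S : Sylow 7 SL32 := Sylow.ofCard (zpowers a) (by
    rw [Nat.card_zpowers, ha, card_SL32, show (168 : ℕ) = 7 ^ 1 * 24 from rfl,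
      Nat.factorization_mul (by norm_num) (by norm_num), Finsupp.add_apply,
      (Fact.out : Nat.Prime 7).factorization_pow, Finsupp.single_eq_same,
      Nat.factorization_eq_zero_of_not_dvd (by norm_num), add_zero, pow_one])
  have hSc : Nat.card (S : Subgroup SL32) = 7 := (Nat.card_zpowers a).trans ha
  have h24 : Nat.card (Sylow 7 SL32) ∣ 24 := by
    have h := Sylow.card_dvd_index S
    have hi := (S : Subgroup SL32).card_mul_index
    rw [hSc, card_SL32] at hi
    rwa [show (S : Subgroup SL32).index = 24 by omega] at h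
  have hm := card_sylow_modEq_one 7 SL32
  have key : ∀ n ∈ Nat.divisors 24, n % 7 = 1 → n = 1 ∨ n = 8 := by decide +kernel
  have h8 : Nat.card (Sylow 7 SL32) = 8 := by
    refine (key _ (Nat.mem_divisors.2 ⟨h24, by norm_num⟩) hm).resolve_left fun h1 => ?_
    haveI : Subsingleton (Sylow 7 SL32) := (Nat.card_eq_one_iff_unique.1 h1).1
    rcases (Sylow.normal_of_subsingleton S).eq_bot_or_eq_top with e | e
    · rw [e, card_bot] at hSc; omega
    · rw [e, card_top, card_SL32] at hSc; omega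
  rw [Sylow.card_eq_index_normalizer S] at h8
  have h := (normalizer ((zpowers a : Subgroup SL32) : Set SL32)).card_mul_index
  have h8' : (normalizer ((zpowers a : Subgroup SL32) : Set SL32)).index = 8 := h8
  rw [h8', card_SL32] at h
  omega

variable {G : Type*} [Group G] [Finite G] {z : G} {P : Subgroup G} (D : Dat z P)
variable (hJ : Cfsg.IsOfJankoFourTypeWith z P)

include hJ

theorem Dat.iso_quot {L M : Subgroup G} (hM : normalizer (L : Set G) = M) {B : Type*} [Group B]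
    (Φ : ↥M →* B) (hs : Function.Surjective Φ) (hk : Φ.ker = L.subgroupOf M) :
    Nonempty (↥(normalizer (L : Set G)) ⧸ L.subgroupOf (normalizer (L : Set G)) ≃* B) := by
  subst hM
  exact ⟨(QuotientGroup.quotientMulEquivOfEq hk.symm).trans (QuotientGroup.quotientKerEquivOfSurjective Φ hs)⟩

theorem Dat.quot_iso :
    Nonempty (↥(normalizer (D.L hJ : Set G)) ⧸ (D.L hJ).subgroupOf (normalizer (D.L hJ : Set G)) ≃* S5 × SL32) := by
  obtain ⟨Φ, hΦ, hk, -⟩ := D.exists_Phi hJ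
  exact Dat.iso_quot hJ (D.normalizer_L hJ) Φ hΦ hk

theorem Dat.no_complement (K : Subgroup ↥(normalizer (D.L hJ : Set G))) :
    ¬ ((D.L hJ).subgroupOf (normalizer (D.L hJ : Set G))).IsComplement' K := by
  intro hc
  obtain ⟨Φ, hΦ, hk, hCZ, -⟩ := D.exists_Phi hJ
  haveI : Fact (Nat.Prime 5) := ⟨by norm_num⟩
  have hNM : normalizer (D.L hJ : Set G) = D.Mn := D.normalizer_L hJ
  set K' := K.map (normalizer (D.L hJ : Set G)).subtype with hK'
  have hK'M : K' ≤ D.Mn := hNM ▸ map_subtype_le K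
  have hdis : ∀ x ∈ K', x ∈ D.L hJ → x = 1 := by
    rintro _ ⟨x, hx, rfl⟩ hxL
    exact congrArg Subtype.val (mem_bot.1 (hc.disjoint.le_bot ⟨mem_subgroupOf.2 hxL, hx⟩))
  -- `K'` maps onto the quotient
  have hlift : ∀ b : S5 × SL32, ∃ k : ↥D.Mn, (k : G) ∈ K' ∧ Φ k = b := by
    intro b
    obtain ⟨m, rfl⟩ := hΦ b
    have hm : (m : G) ∈ normalizer (D.L hJ : Set G) := by rw [hNM]; exact m.2
    obtain ⟨⟨⟨⟨l, hlN⟩, hl⟩, ⟨k, hkK⟩⟩, hlk, -⟩ := (isComplement'_def.1 hc).existsUnique (⟨m, hm⟩ : ↥(normalizer (D.L hJ : Set G)))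
    have hk' : (k : G) ∈ K' := ⟨k, hkK, rfl⟩
    refine ⟨⟨k, hK'M hk'⟩, hk', ?_⟩
    have e : (l : G) * k = m := congrArg Subtype.val hlk
    have hlM : l ∈ D.Mn := D.L_le_Mn hJ (mem_subgroupOf.1 hl)
    have hl1 : Φ ⟨l, hlM⟩ = 1 := by rw [← MonoidHom.mem_ker, hk]; exact mem_subgroupOf.2 (mem_subgroupOf.1 hl)
    rw [show m = ⟨l, hlM⟩ * ⟨k, hK'M hk'⟩ from Subtype.ext e.symm, map_mul, hl1, one_mul]
  obtain ⟨σ, hσ⟩ := exists_prime_orderOf_dvd_card' (G := S5) 5 (by rw [Nat.card_perm]; simp [Nat.factorial])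
  obtain ⟨g, hgK, hg⟩ := hlift (σ, 1)
  have hinjK : ∀ a : ↥D.Mn, (a : G) ∈ K' → Φ a = 1 → a = 1 := fun a ha h => by
    have : a ∈ Φ.ker := h
    rw [hk, mem_subgroupOf] at this
    exact Subtype.ext (hdis _ ha this)
  have hg5 : orderOf g = 5 := by
    refine orderOf_eq_prime (hinjK _ (pow_mem hgK 5) ?_) fun e => ?_
    · rw [map_pow, hg]
      exact Prod.ext (orderOf_dvd_iff_pow_eq_one.1 (by rw [hσ])) (one_pow 5)
    · rw [e, map_one] at hg
      rw [show σ = 1 from (congrArg Prod.fst hg).symm, orderOf_one] at hσ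
      norm_num at hσ
  have hgCZ : (g : G) ∈ D.CZ := (hCZ g).2 (by rw [hg])
  -- conjugate to `f` within `C(Z)`
  have hfac : (Nat.card ↥D.CZ).factorization 5 = 1 := by
    rw [D.card_CZ hJ, show (2 : ℕ) ^ 11 * 1920 = 5 ^ 1 * 786432 by norm_num,
      Nat.factorization_mul (by norm_num) (by norm_num), Finsupp.add_apply,
      (Fact.out : Nat.Prime 5).factorization_pow, Finsupp.single_eq_same,
      Nat.factorization_eq_zero_of_not_dvd (by norm_num), add_zero]
  let Sg : Sylow 5 ↥D.CZ := Sylow.ofCard (zpowers (⟨g, hgCZ⟩ : ↥D.CZ))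
    (by rw [Nat.card_zpowers, orderOf_mk, orderOf_coe, hg5, hfac, pow_one])
  let Sf : Sylow 5 ↥D.CZ := Sylow.ofCard (zpowers (⟨D.f, D.f_mem_CZ hJ⟩ : ↥D.CZ))
    (by rw [Nat.card_zpowers, orderOf_mk, D.f_ord, hfac, pow_one])
  obtain ⟨c, hcs⟩ := MulAction.exists_smul_eq ↥D.CZ Sg Sf
  have hfmem : (⟨D.f, D.f_mem_CZ hJ⟩ : ↥D.CZ) ∈ (Sf : Subgroup ↥D.CZ) := mem_zpowers _
  rw [← hcs, Sylow.coe_subgroup_smul, mem_pointwise_smul_iff_inv_smul_mem] at hfmem
  obtain ⟨i, hi⟩ := hfmem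
  have hi' : (g : G) ^ i = (c : G)⁻¹ * D.f * c := by simpa [MulAut.smul_def] using congrArg Subtype.val hi
  have hcM : (c : G) ∈ D.Mn := D.CZ_le_Mn c.2
  -- the lifts of `1 × SL(3,2)`
  choose k hkK hkΦ using fun a : SL32 => hlift (1, a)
  have hcomm : ∀ a, (k a : G) * g = g * k a := fun a => by
    have h : Φ (k a * g * (k a)⁻¹ * g⁻¹) = 1 := by
      simp only [map_mul, map_inv, hg, hkΦ]
      exact Prod.ext (by simp) (by simp)
    have h1 := hinjK _ (mul_mem (mul_mem (mul_mem (hkK a) hgK) (inv_mem (hkK a))) (inv_mem hgK)) h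
    exact congrArg Subtype.val (mul_inv_eq_iff_eq_mul.1 (mul_inv_eq_one.1 h1))
  let φ : SL32 →* G := MonoidHom.mk' (fun a => (c : G) * k a * (c : G)⁻¹) fun a b => by
    have h : k (a * b) = k a * k b := by
      refine (inv_mul_eq_one.1 (hinjK _ (mul_mem (inv_mem (mul_mem (hkK a) (hkK b))) (hkK (a * b))) ?_)).symm
      simp only [map_mul, map_inv, hkΦ]
      exact Prod.ext (by simp) (by simp)
    rw [h, Subgroup.coe_mul]
    group
  have hφJ : φ.range ≤ D.J := by
    rintro _ ⟨a, rfl⟩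
    refine D.mem_J (mem_centralizer_singleton_iff.2 ?_) (n := 168) ?_ (by decide)
    · show (c : G) * k a * (c : G)⁻¹ * D.f = D.f * ((c : G) * k a * (c : G)⁻¹)
      have hc' : Commute (k a : G) ((c : G)⁻¹ * D.f * c) := hi' ▸ (show Commute (k a : G) g from hcomm a).zpow_right i
      calc (c : G) * k a * (c : G)⁻¹ * D.f = (c : G) * ((k a : G) * ((c : G)⁻¹ * D.f * c)) * (c : G)⁻¹ := by group
        _ = _ := by rw [hc'.eq]; group
    · rw [← map_pow, ← card_SL32, pow_card_eq_one', map_one]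
  have hφinj : Function.Injective φ := fun a b h => by
    have h1 : k a = k b := Subtype.ext (mul_left_cancel (mul_right_cancel h))
    have h2 := congrArg Φ h1
    rw [hkΦ, hkΦ] at h2
    exact congrArg Prod.snd h2
  refine D.no_compl φ.range hφJ ?_ ?_
  · refine (eq_bot_iff_forall _).2 fun x hx => ?_
    obtain ⟨⟨a, rfl⟩, hxZ⟩ := mem_inf.1 hx
    have hm : (k a : G) ∈ D.L hJ := by
      have := (mem_normalizer_iff.1 (D.CZ_normalizes_L hJ c.2) (k a : G)).2 (D.Z_le_L hJ hxZ)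
      exact this
    show (c : G) * k a * (c : G)⁻¹ = 1
    rw [hdis _ (hkK a) hm, mul_one, mul_inv_cancel]
  · rw [← Nat.card_congr (MonoidHom.ofInjective hφinj).toEquiv, card_SL32]

theorem Dat.sylow_five (h25 : ¬ 25 ∣ Nat.card G) :
    ∃ Q : Sylow 5 G, normalizer ((Q : Subgroup G) : Set G) ≤ normalizer (D.L hJ : Set G) := by
  haveI : Fact (Nat.Prime 5) := ⟨by norm_num⟩
  have hfac : (Nat.card G).factorization 5 = 1 := by
    refine le_antisymm ?_ ?_
    · by_contra h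
      push Not at h
      exact h25 (show 5 ^ 2 ∣ _ from (pow_dvd_pow 5 h).trans (Nat.ordProj_dvd _ _))
    · exact (Nat.Prime.dvd_iff_one_le_factorization Fact.out Nat.card_pos.ne').1
        (D.f_ord ▸ orderOf_dvd_natCard D.f)
  refine ⟨Sylow.ofCard (zpowers D.f) (by rw [Nat.card_zpowers, D.f_ord, hfac, pow_one]), ?_⟩
  rw [D.normalizer_L hJ]
  exact D.normalizer_f_le

/-- The statement on elements of order seven of the centraliser of `z`. -/
def SevenLocal (z : G) : Prop :=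
  ∀ S : Subgroup G, Nat.card ↥S = 7 → S ≤ centralizer ({z} : Set G) →
    ¬ (49 ∣ Nat.card G) ∧
    (∃ I : Subgroup G, Cfsg.IsInternalDirectProduct S I (centralizer (S : Set G)) ∧ Nonempty (↥I ≃* Equiv.Perm (Fin 5))) ∧
    Nat.card ↥(normalizer (S : Set G)) = 3 * Nat.card ↥(centralizer (S : Set G)) ∧
    Nat.card ↥(normalizer (S : Set G)) = 2 ^ 3 * 3 ^ 2 * 5 * 7

theorem Dat.sylow_seven (h73 : SevenLocal z) :
    (∃ K₁ : Subgroup G, K₁ ≤ normalizer (D.L hJ : Set G) ∧ Nonempty (↥K₁ ≃* Equiv.Perm (Fin 5))) ∧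
    ∃ S : Sylow 7 G, normalizer ((S : Subgroup G) : Set G) ≤ normalizer (D.L hJ : Set G) := by
  haveI : Fact (Nat.Prime 7) := ⟨by norm_num⟩
  obtain ⟨⟨d, hdC⟩, hdo⟩ := exists_prime_orderOf_dvd_card' (G := ↥(cC z P)) 7
    (by rw [card_C hJ]; norm_num)
  rw [orderOf_mk] at hdo
  obtain ⟨h49, ⟨I, hI, ⟨eI⟩⟩, -, hN⟩ := h73 (zpowers d) (by rw [Nat.card_zpowers, hdo]) (zpowers_le.2 hdC.1)
  have hfac : (Nat.card G).factorization 7 = 1 := by
    refine le_antisymm ?_ ?_
    · by_contra h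
      push Not at h
      exact h49 (show 7 ^ 2 ∣ _ from (pow_dvd_pow 7 h).trans (Nat.ordProj_dvd _ _))
    · exact (Nat.Prime.dvd_iff_one_le_factorization Fact.out Nat.card_pos.ne').1
        (hdo ▸ orderOf_dvd_natCard d)
  obtain ⟨⟨s, hsJ⟩, hso⟩ := exists_prime_orderOf_dvd_card' (G := ↥D.J) 7 (by rw [D.card_J]; norm_num)
  rw [orderOf_mk] at hso
  let Sd : Sylow 7 G := Sylow.ofCard (zpowers d) (by rw [Nat.card_zpowers, hdo, hfac, pow_one])
  let Ss : Sylow 7 G := Sylow.ofCard (zpowers s) (by rw [Nat.card_zpowers, hso, hfac, pow_one])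
  have hNs : Nat.card ↥(normalizer ((zpowers s : Subgroup G) : Set G)) = 2520 := by
    have h1 : (normalizer ((zpowers s : Subgroup G) : Set G)).index =
        (normalizer ((zpowers d : Subgroup G) : Set G)).index :=
      (Sylow.card_eq_index_normalizer Ss).symm.trans (Sylow.card_eq_index_normalizer Sd)
    have e1 := (normalizer ((zpowers s : Subgroup G) : Set G)).card_mul_index
    have e2 := (normalizer ((zpowers d : Subgroup G) : Set G)).card_mul_index
    rw [h1, ← e2, hN] at e1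
    exact Nat.eq_of_mul_eq_mul_right (Nat.pos_of_ne_zero (index_ne_zero_of_finite)) (e1.trans (by norm_num))
  obtain ⟨Φ, hΦ, hk, hCZ, -⟩ := D.exists_Phi hJ
  let x : ↥D.Mn := ⟨s, D.J_le_normalizer hsJ⟩
  have hxo : orderOf x = 7 := (orderOf_mk s _).trans hso
  have hx1 : (Φ x).1 = 1 := by
    refine eq_one_of_coprime (m := 7) (n := 120) ?_ ?_ (by decide)
    · rw [← Prod.pow_fst, ← map_pow, ← hxo, pow_orderOf_eq_one, map_one]; rfl
    · rw [show (120 : ℕ) = Nat.card S5 by rw [Nat.card_perm]; simp [Nat.factorial], pow_card_eq_one']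
  have hx2 : orderOf (Φ x).2 = 7 := by
    refine orderOf_eq_prime (by rw [← Prod.pow_snd, ← map_pow, ← hxo, pow_orderOf_eq_one, map_one]; rfl)
      fun e => ?_
    have hmem : x ∈ Φ.ker := Prod.ext hx1 e
    rw [hk, mem_subgroupOf] at hmem
    have h := (D.isPGroup_L hJ) ⟨s, hmem⟩
    obtain ⟨i, hi⟩ := h
    have hs1 : s = 1 := eq_one_of_coprime (congrArg Subtype.val hi) (hso ▸ pow_orderOf_eq_one s)
      (Nat.Coprime.pow_left i (by decide))
    rw [hs1, orderOf_one] at hso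
    norm_num at hso
  have hker2 : IsPGroup 2 Φ.ker := by
    rw [hk]; exact (D.isPGroup_L hJ).of_equiv (subgroupOfEquivOfLe (D.L_le_Mn hJ)).symm
  set Nx := normalizer ((zpowers x : Subgroup ↥D.Mn) : Set ↥D.Mn) with hNx
  have hge : Nat.card (S5 × ↥(normalizer ((zpowers (Φ x).2 : Subgroup SL32) : Set SL32))) ≤ Nat.card Nx := by
    have hex : ∀ b : S5 × ↥(normalizer ((zpowers (Φ x).2 : Subgroup SL32) : Set SL32)),
        ∃ m ∈ Nx, Φ m = (b.1, (b.2 : SL32)) := fun b => by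
      obtain ⟨n, hn⟩ := hΦ (b.1, (b.2 : SL32))
      have hn' : Φ n * Φ x * (Φ n)⁻¹ ∈ zpowers (Φ x) := by
        obtain ⟨i, hi⟩ := (mem_normalizer_iff.1 b.2.2 (Φ x).2).1 (mem_zpowers _)
        refine ⟨i, Prod.ext ?_ ?_⟩
        · rw [hn, Prod.pow_fst, hx1, one_zpow]
          show (1 : S5) = b.1 * (Φ x).1 * b.1⁻¹
          rw [hx1, mul_one, mul_inv_cancel]
        · rw [hn, Prod.pow_snd]
          exact hi
      obtain ⟨m, hm, hmN⟩ := exists_lift Φ hker2 (p := 7) (by norm_num) hxo hn'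
      exact ⟨m, hmN, hm.trans hn⟩
    choose m hmN hmΦ using hex
    refine Nat.card_le_card_of_injective (fun b => (⟨m b, hmN b⟩ : ↥Nx)) fun a b h => ?_
    have h' : Φ (m a) = Φ (m b) := congrArg (fun y : ↥Nx => Φ y.1) h
    rw [hmΦ, hmΦ] at h'
    have e1 : a.1 = b.1 := (Prod.ext_iff.1 h').1
    have e2 : (a.2 : SL32) = (b.2 : SL32) := (Prod.ext_iff.1 h').2
    exact Prod.ext e1 (Subtype.ext e2)
  rw [Nat.card_prod, card_normalizer_seven_SL hx2, Nat.card_perm, Nat.card_fin,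
    show Nat.factorial 5 * 21 = 2520 from rfl] at hge
  have hNle : Nx.map D.Mn.subtype ≤ normalizer ((zpowers s : Subgroup G) : Set G) := by
    rintro _ ⟨n, hn, rfl⟩
    refine mem_normalizer_iff_map_conj_eq.2 (eq_of_le_of_card_ge ?_ ?_)
    · rw [MonoidHom.map_zpowers]
      obtain ⟨i, hi⟩ := (mem_normalizer_iff.1 hn x).1 (mem_zpowers x)
      refine zpowers_le.2 ⟨i, ?_⟩
      exact (by simpa using congrArg Subtype.val hi : s ^ i = (n : G) * s * (n : G)⁻¹)
    · rw [card_map_of_injective (MulAut.conj _).injective]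
  have heq := eq_of_le_of_card_ge hNle (by
    rw [hNs, card_map_of_injective D.Mn.subtype_injective]; exact hge)
  have hNM : normalizer ((zpowers s : Subgroup G) : Set G) ≤ normalizer (D.L hJ : Set G) := by
    rw [D.normalizer_L hJ, ← heq]
    exact map_subtype_le _
  refine ⟨?_, Ss, hNM⟩
  obtain ⟨g, hg⟩ := MulAction.exists_smul_eq G Sd Ss
  refine ⟨I.map (MulAut.conj g).toMonoidHom, ?_,
    ⟨(I.equivMapOfInjective _ (MulAut.conj g).injective).symm.trans eI⟩⟩
  rintro _ ⟨y, hy, rfl⟩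
  refine hNM (centralizer_le_normalizer _ (mem_centralizer_iff.2 fun t ht => ?_))
  have hts : t ∈ (Ss : Subgroup G) := ht
  rw [← hg, Sylow.coe_subgroup_smul, mem_pointwise_smul_iff_inv_smul_mem] at hts
  have hts' : g⁻¹ * t * g ∈ zpowers d := by simp [MulAut.smul_def] at hts; exact hts
  have hc := hI.2.2.1 _ hts' y hy
  show t * (g * y * g⁻¹) = g * y * g⁻¹ * t
  calc t * (g * y * g⁻¹) = g * (g⁻¹ * t * g * y) * g⁻¹ := by group
    _ = _ := by rw [hc]; group

end CfsgLib.J4Pentad
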