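/-
Janko-four type, the pentad 2-local subgroup: it contains a subgroup isomorphic to L₃(2).

An element `x` of order three of `C(Z)` is conjugate to a generator of `P`, so a subgroup of order 1344 of
its centraliser embeds in M22; a point stabiliser of that subgroup on 22 points is the required complement.
-/
import Cfsg.Agent.J4Local.Pentad.Local
import Cfsg.Agent.J4Local.Eleven.M24Invol

set_option autoImplicit false
set_option linter.style.haveILetI false
set_option linter.unusedSectionVars false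

namespace CfsgLib.J4Pentad

open Subgroup CfsgLib.J4Local CfsgLib.J4Local.M22Elem CfsgLib.J4Local.FixMod

/-- A group of order 1344 on 22 points whose normal eights group fixes few points has a point stabiliser
of order 168 meeting it trivially. -/
theorem exists_complement {W Ω : Type*} [Group W] [Finite W] [Finite Ω] [MulAction W Ω] (hΩ : Nat.card Ω = 22)
    (V : Subgroup W) [V.Normal] (hV : Nat.card V = 8) (hW : Nat.card W = 1344)
    (hfix : ∀ v ∈ V, v ≠ 1 → Nat.card (MulAction.fixedBy Ω v) ≤ 6)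
    {s : W} (hs : orderOf s = 7) (hfpf : ∀ v ∈ V, s * v = v * s → v = 1)
    (h84 : ∀ H : Subgroup W, H ⊓ V = ⊥ → Nat.card H ≠ 84) :
    ∃ Y : Subgroup W, Nat.card Y = 168 ∧ Y ⊓ V = ⊥ := by
  classical
  haveI : Fact (Nat.Prime 7) := ⟨by norm_num⟩
  haveI : Fact (Nat.Prime 2) := ⟨Nat.prime_two⟩
  set S := zpowers s with hS
  have hSp : IsPGroup 7 ↥S := IsPGroup.of_card (n := 1) (by rw [Nat.card_zpowers, hs, pow_one])
  have hVp : IsPGroup 2 ↥V := IsPGroup.of_card (n := 3) (by rw [hV]; norm_num)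
  -- the stabiliser in `V` of a point fixed by `s` is trivial or everything
  have hcases : ∀ r : Ω, s • r = r → V ⊓ MulAction.stabilizer W r = ⊥ ∨ V ≤ MulAction.stabilizer W r := by
    intro r hr
    set T := V ⊓ MulAction.stabilizer W r
    have hn : S ≤ normalizer (T : Set W) := zpowers_le.2 (by
      refine mem_normalizer_iff.2 fun v => ⟨fun hv => ⟨(inferInstance : V.Normal).conj_mem v hv.1 s, ?_⟩,
        fun hv => ⟨?_, ?_⟩⟩
      · show (s * v * s⁻¹) • r = r
        rw [mul_smul, mul_smul, show s⁻¹ • r = r from inv_smul_eq_iff.2 hr.symm, show v • r = r from hv.2, hr]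
      · have := (inferInstance : V.Normal).conj_mem _ hv.1 s⁻¹
        simpa [mul_assoc] using this
      · show v • r = r
        have h := hv.2
        change (s * v * s⁻¹) • r = r at h
        rw [mul_smul, mul_smul, show s⁻¹ • r = r from inv_smul_eq_iff.2 hr.symm] at h
        exact MulAction.injective s (h.trans hr.symm))
    have h := card_modEq_centralizer hSp hn
    have hc : T ⊓ centralizer (S : Set W) = ⊥ := (eq_bot_iff_forall _).2 fun v hv =>
      hfpf v hv.1.1 (mem_centralizer_iff.1 hv.2 s (mem_zpowers s))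
    rw [hc, card_bot] at h
    have hd : Nat.card T ∣ 2 ^ 3 := by
      rw [show (2 : ℕ) ^ 3 = 8 by norm_num, ← hV]; exact card_dvd_of_le inf_le_left
    obtain ⟨k, hk, hk'⟩ := (Nat.dvd_prime_pow Nat.prime_two).1 hd
    rw [hk'] at h
    unfold Nat.ModEq at h
    interval_cases k
    · exact Or.inl (card_eq_one.1 (by rw [hk']; norm_num))
    · norm_num at h
    · norm_num at h
    · exact Or.inr (inf_eq_left.1 (eq_of_le_of_card_ge inf_le_left (by rw [hk', hV]; norm_num)))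
  by_cases hreg : ∃ r : Ω, s • r = r ∧ V ⊓ MulAction.stabilizer W r = ⊥
  · obtain ⟨r, hr, hrV⟩ := hreg
    set Y := MulAction.stabilizer W r with hY
    refine ⟨Y, ?_, by rwa [inf_comm]⟩
    have h7 : 7 ∣ Nat.card Y := by
      have := Subgroup.orderOf_dvd_natCard Y (show s ∈ Y from hr)
      rwa [hs] at this
    have hn : Y ≤ normalizer (V : Set W) := by rw [normalizer_eq_top_iff.2 inferInstance]; exact le_top
    have hsup := CfsgLib.Solvable.card_sup_of_disjoint hn (by rwa [inf_comm])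
    rw [hV] at hsup
    have hdvd : Nat.card Y * 8 ∣ 1344 := by rw [← hsup, ← hW]; exact card_subgroup_dvd_card _
    have hidx := Y.card_mul_index
    rw [hW] at hidx
    have horb : Y.index ≤ 22 := by
      rw [hY, MulAction.index_stabilizer, ← hΩ, ← Nat.card_coe_set_eq]
      exact Nat.card_le_card_of_injective _ Subtype.val_injective
    have hY168 : Nat.card Y ∣ 168 := Nat.dvd_of_mul_dvd_mul_right (by norm_num : 0 < 8)
      (show Nat.card Y * 8 ∣ 168 * 8 from hdvd)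
    have h84' := h84 Y (by rwa [inf_comm])
    have hge : 62 ≤ Nat.card Y := by nlinarith
    have key : ∀ n ∈ Nat.divisors 168, 62 ≤ n → n = 84 ∨ n = 168 := by decide +kernel
    exact (key _ (Nat.mem_divisors.2 ⟨hY168, by norm_num⟩) hge).resolve_left h84'
  · exfalso
    push Not at hreg
    -- all points fixed by `s` are fixed by `V`
    set F := MulAction.fixedPoints ↥V Ω with hF
    have h2 : Nat.card Ω ≡ Nat.card F [MOD 2] := hVp.card_modEq_card_fixedPoints Ω
    have h7 : Nat.card Ω ≡ Nat.card (MulAction.fixedPoints ↥S Ω) [MOD 7] := hSp.card_modEq_card_fixedPoints Ω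
    letI : MulAction ↥S F :=
      { smul := fun g x => ⟨(g : W) • (x : Ω), fun v => by
          have hv : (g : W)⁻¹ * v * g ∈ V := by
            have := (inferInstance : V.Normal).conj_mem _ v.2 (g : W)⁻¹
            rwa [inv_inv] at this
          have hfx : ((g : W)⁻¹ * v * g) • (x : Ω) = x := x.2 ⟨_, hv⟩
          show (v : W) • ((g : W) • (x : Ω)) = (g : W) • (x : Ω)
          rw [← mul_smul, show (v : W) * g = g * ((g : W)⁻¹ * v * g) by group, mul_smul, hfx]⟩
        one_smul := fun x => Subtype.ext (one_smul W (x : Ω))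
        mul_smul := fun a b x => Subtype.ext (mul_smul (a : W) (b : W) (x : Ω)) }
    have h7F : Nat.card F ≡ Nat.card (MulAction.fixedPoints ↥S F) [MOD 7] := hSp.card_modEq_card_fixedPoints F
    have hfixeq : Nat.card (MulAction.fixedPoints ↥S F) = Nat.card (MulAction.fixedPoints ↥S Ω) := by
      refine Nat.card_congr
        { toFun := fun x => ⟨(x.1 : Ω), fun g => congrArg Subtype.val (x.2 g)⟩
          invFun := fun x => ⟨⟨x.1, fun v => ?_⟩, fun g => Subtype.ext (x.2 g)⟩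
          left_inv := fun _ => rfl
          right_inv := fun _ => rfl }
      have hsx : s • x.1 = x.1 := x.2 ⟨s, mem_zpowers s⟩
      exact (hcases x.1 hsx).resolve_left (hreg x.1 hsx) v.2
    obtain ⟨v, hv, hv1⟩ := (V.bot_or_exists_ne_one).resolve_left fun e => by
      rw [e, card_bot] at hV; norm_num at hV
    have hF6 : Nat.card F ≤ 6 := le_trans
      (Nat.card_le_card_of_injective (fun x : F => (⟨x.1, x.2 ⟨v, hv⟩⟩ : MulAction.fixedBy Ω v))
        (fun a b h => Subtype.ext (congrArg (fun y : MulAction.fixedBy Ω v => y.1) h))) (hfix v hv hv1)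
    rw [hΩ] at h2 h7
    rw [hfixeq] at h7F
    unfold Nat.ModEq at h2 h7 h7F
    omega

variable {G : Type*} [Group G] [Finite G] {z : G} {P : Subgroup G} (D : Dat z P)
variable (hJ : Cfsg.IsOfJankoFourTypeWith z P)

include hJ

theorem Dat.not_commute_seven {j y : G} (hj : j ∈ D.J) (hj7 : orderOf j = 7) (hy : y ∈ D.Z)
    (h : j * y = y * j) : y = 1 := by
  by_contra hy1
  obtain ⟨m, hm, hmy⟩ := D.transitive hJ hy hy1
  have hj' : j ^ 7 = 1 := hj7 ▸ pow_orderOf_eq_one j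
  have hH : m⁻¹ * j * m ∈ cH z := mem_cH.2 (by
    calc m⁻¹ * j * m * z = m⁻¹ * (j * (m * z * m⁻¹)) * m := by group
      _ = z * (m⁻¹ * j * m) := by rw [hmy, h, ← hmy]; group)
  have hc : Commute D.f (m⁻¹ * j * m) := ((D.f_comm_J (mem_zpowers D.f) hm).inv_right.mul_right
    (D.f_comm_J (mem_zpowers D.f) hj)).mul_right (D.f_comm_J (mem_zpowers D.f) hm)
  have := eq_one_of_seven hJ D.f_mem D.f_ord hH
    (by rw [show m⁻¹ * j * m = m⁻¹ * j * m⁻¹⁻¹ by rw [inv_inv], conj_pow, hj', mul_one, mul_inv_cancel]) hc.symm.eq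
  have h1 : j = 1 := by
    calc j = m * (m⁻¹ * j * m) * m⁻¹ := by group
      _ = 1 := by rw [this]; group
  rw [h1, orderOf_one] at hj7
  norm_num at hj7

theorem Dat.exists_L32 (hone : ∀ x y : G, orderOf x = 3 → orderOf y = 3 → IsConj x y)
    (hNP : normalizer (P : Set G) ≤ cH z) :
    ∃ K₂ : Subgroup G, K₂ ≤ normalizer (D.L hJ : Set G) ∧ Nonempty (↥K₂ ≃* SL32) := by
  classical
  haveI : Fact (Nat.Prime 3) := ⟨Nat.prime_three⟩
  haveI : Fact (Nat.Prime 7) := ⟨by norm_num⟩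
  obtain ⟨Φ, hΦ, hk, hCZ, hJs⟩ := D.exists_Phi hJ
  obtain ⟨⟨x0, hx0C⟩, hx0⟩ := exists_prime_orderOf_dvd_card' (G := ↥D.CZ) 3 (by rw [D.card_CZ hJ]; norm_num)
  rw [orderOf_mk] at hx0
  let x : ↥D.Mn := ⟨x0, D.CZ_le_Mn hx0C⟩
  have hxo : orderOf x = 3 := (orderOf_mk x0 _).trans hx0
  have hx3 : x ^ 3 = 1 := hxo ▸ pow_orderOf_eq_one x
  have hker2 : IsPGroup 2 Φ.ker := by
    rw [hk]; exact (D.isPGroup_L hJ).of_equiv (subgroupOfEquivOfLe (D.L_le_Mn hJ)).symm
  have hxsnd : (Φ x).2 = 1 := (hCZ x).1 hx0C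
  have hΦxo : orderOf (Φ x) = 3 := by
    refine orderOf_eq_prime (by rw [← map_pow, hx3, map_one]) fun e => ?_
    obtain ⟨i, hi⟩ := hker2 ⟨x, e⟩
    have h1 : x = 1 := eq_one_of_coprime (congrArg Subtype.val hi) hx3 (Nat.Coprime.pow_left i (by decide))
    rw [h1, orderOf_one] at hxo
    norm_num at hxo
  set τ := (Φ x).1 with hτ
  have hΦx : Φ x = (τ, 1) := Prod.ext rfl hxsnd
  have hτo : orderOf τ = 3 := by
    rw [hΦx, Prod.orderOf] at hΦxo
    simpa using hΦxo
  -- the centraliser of `x` in the local subgroup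
  set W2 : Subgroup ↥D.Mn := centralizer ({x} : Set ↥D.Mn) with hW2
  have hlift : ∀ b : S5 × SL32, b.1 * τ = τ * b.1 → ∃ m ∈ W2, Φ m = b := by
    intro b hb
    obtain ⟨n, rfl⟩ := hΦ b
    have hn : Φ n * Φ x * (Φ n)⁻¹ = Φ x := by
      rw [mul_inv_eq_iff_eq_mul, hΦx]
      exact Prod.ext hb (by simp)
    obtain ⟨m, hm, hmN⟩ := exists_lift Φ hker2 (p := 3) (by norm_num) hxo (n := n) (by rw [hn]; exact mem_zpowers _)
    refine ⟨m, mem_centralizer_singleton_iff.2 ?_, hm⟩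
    obtain ⟨i, hi⟩ := (mem_normalizer_iff.1 hmN x).1 (mem_zpowers x)
    have hi' : x ^ i = m * x * m⁻¹ := hi
    have h1 := congrArg Φ hi'
    rw [map_zpow, map_mul, map_mul, map_inv, hm, hn] at h1
    have h2 : x ^ i = x := by
      have h3 : Φ x ^ (i - 1) = 1 := by rw [zpow_sub_one, h1, mul_inv_cancel]
      have h4 : (orderOf x : ℤ) ∣ i - 1 := by
        rw [hxo, ← hΦxo]; exact orderOf_dvd_iff_zpow_eq_one.2 h3
      have h5 := orderOf_dvd_iff_zpow_eq_one.1 h4
      rwa [zpow_sub_one, mul_inv_eq_one] at h5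
    exact mul_inv_eq_iff_eq_mul.1 (hi'.symm.trans h2)
  -- conjugation into `C_H(P)`
  obtain ⟨p, hp, hp1⟩ := Dat.exists_p hJ
  have hpo : orderOf p = 3 := orderOf_eq_prime (Dat.P_pow hJ hp) hp1
  have hPeq : zpowers p = P := eq_of_le_of_card_ge (zpowers_le.2 hp) (by rw [Nat.card_zpowers, hpo, card_P hJ])
  obtain ⟨g, hg⟩ := isConj_iff.1 (hone x0 p hx0 hpo)
  have hW2C : ∀ m ∈ W2, g * (m : G) * g⁻¹ ∈ cC z P := by
    intro m hm
    have hmc : (m : G) * x0 = x0 * m := congrArg Subtype.val (mem_centralizer_singleton_iff.1 hm)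
    have hc0 : g * (m : G) * g⁻¹ ∈ centralizer ((zpowers p : Subgroup G) : Set G) := by
      rw [zpowers_eq_closure, centralizer_closure, mem_centralizer_singleton_iff, ← hg]
      calc g * (m : G) * g⁻¹ * (g * x0 * g⁻¹) = g * ((m : G) * x0) * g⁻¹ := by group
        _ = _ := by rw [hmc]; group
    have hc : g * (m : G) * g⁻¹ ∈ centralizer (P : Set G) :=
      mem_centralizer_iff.2 fun q hq => mem_centralizer_iff.1 hc0 q (hPeq.ge hq)
    exact mem_inf.2 ⟨hNP (centralizer_le_normalizer _ hc), hc⟩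
  let κ : ↥W2 →* M := (quo hJ).comp
    (((MulAut.conj g).toMonoidHom.comp (D.Mn.subtype.comp W2.subtype)).codRestrict (cC z P)
      fun m => hW2C m.1 m.2)
  have hκ : ∀ m : ↥W2, κ m = 1 → ∃ u ∈ zpowers z, ∃ i : ℤ, ((m : ↥D.Mn) : G) = g⁻¹ * u * g * x0 ^ i := by
    intro m hm
    have h := (quo_eq_one_iff hJ).1 hm
    have hn : zpowers z ≤ normalizer (P : Set G) :=
      zpowers_le.2 (centralizer_le_normalizer _ (z_mem_C_P hJ))
    obtain ⟨u, hu, q, hq, huq⟩ := (CfsgLib.Solvable.mem_sup_of_le_normalizer hn).1 h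
    rw [← hPeq] at hq
    obtain ⟨i, rfl⟩ := hq
    refine ⟨u, hu, i, ?_⟩
    have huq' : u * p ^ i = g * ((m : ↥D.Mn) : G) * g⁻¹ := huq
    rw [← hg, conj_zpow] at huq'
    calc ((m : ↥D.Mn) : G) = g⁻¹ * (g * ((m : ↥D.Mn) : G) * g⁻¹) * g := by group
      _ = _ := by rw [← huq']; group
  have hκker : Nat.card κ.ker ∣ 6 := by
    let e : ↥κ.ker →* ↥(cK z P) := (((MulAut.conj g).toMonoidHom.comp (D.Mn.subtype.comp W2.subtype)).comp
      κ.ker.subtype).codRestrict (cK z P) fun m => (quo_eq_one_iff hJ).1 m.2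
    have he : Function.Injective e := fun a b h => by
      have h' : g * (((a : ↥W2) : ↥D.Mn) : G) * g⁻¹ = g * (((b : ↥W2) : ↥D.Mn) : G) * g⁻¹ := congrArg Subtype.val h
      exact Subtype.ext (Subtype.ext (Subtype.ext (mul_left_cancel (mul_right_cancel h'))))
    rw [← card_K hJ, Nat.card_congr (MonoidHom.ofInjective he).toEquiv]
    exact card_subgroup_dvd_card _
  -- `C_L(x) = Z`
  set C := D.L hJ ⊓ centralizer ((zpowers x0 : Subgroup G) : Set G) with hC
  have hCW : ∀ c ∈ C, ∃ h : c ∈ D.Mn, (⟨c, h⟩ : ↥D.Mn) ∈ W2 := fun c hc =>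
    ⟨D.L_le_Mn hJ (mem_inf.1 hc).1, mem_centralizer_singleton_iff.2
      (Subtype.ext (mem_centralizer_iff.1 (mem_inf.1 hc).2 x0 (mem_zpowers x0)).symm)⟩
  have hZC : D.Z ≤ C := le_inf (D.Z_le_L hJ) fun a ha => mem_centralizer_iff.2 fun b hb =>
    (mem_centralizer_iff.1 ((zpowers_le.2 hx0C) hb) a ha).symm
  let Φ2 : ↥W2 →* S5 × SL32 := Φ.comp W2.subtype
  have hΦ2k : Nat.card Φ2.ker = Nat.card C := by
    refine Nat.card_congr
      { toFun := fun m => ⟨(((m : ↥W2) : ↥D.Mn) : G), ?_⟩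
        invFun := fun c => ⟨⟨⟨c.1, (hCW c.1 c.2).choose⟩, (hCW c.1 c.2).choose_spec⟩, ?_⟩
        left_inv := fun _ => rfl
        right_inv := fun _ => rfl }
    · refine mem_inf.2 ⟨?_, ?_⟩
      · have h : ((m : ↥W2) : ↥D.Mn) ∈ Φ.ker := m.2
        rw [hk] at h
        exact h
      · rw [zpowers_eq_closure, centralizer_closure, mem_centralizer_singleton_iff]
        exact congrArg Subtype.val (mem_centralizer_singleton_iff.1 m.1.2)
    · show Φ _ = 1
      rw [← MonoidHom.mem_ker, hk]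
      exact (mem_inf.1 c.2).1
  have hZ8 : Nat.card C = 8 := by
    obtain ⟨k, hk3, hkc⟩ : ∃ k ≤ 15, Nat.card C = 2 ^ k := by
      have hd := card_dvd_of_le (inf_le_left : C ≤ D.L hJ)
      rw [D.card_L hJ] at hd
      exact (Nat.dvd_prime_pow Nat.prime_two).1 hd
    have hp3 : IsPGroup 3 ↥(zpowers x0) := IsPGroup.of_card (n := 1) (by rw [Nat.card_zpowers, hx0, pow_one])
    have hmod := card_modEq_centralizer hp3 (zpowers_le.2 (D.CZ_normalizes_L hJ hx0C))
    rw [← hC, D.card_L hJ, hkc] at hmod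
    have hge : 8 ≤ 2 ^ k := hkc ▸ D.Z_card ▸ card_le_of_le hZC
    set Cτ := centralizer ({τ} : Set S5)
    have h6 : 6 ∣ Nat.card Cτ := by
      have h3' : 3 ∣ Nat.card Cτ :=
        hτo ▸ Subgroup.orderOf_dvd_natCard Cτ (show τ ∈ Cτ from mem_centralizer_singleton_iff.2 rfl)
      have key : ∀ t : S5, t ^ 3 = 1 → ∃ σ : S5, σ ≠ 1 ∧ σ ^ 2 = 1 ∧ σ * t = t * σ := by decide +kernel
      obtain ⟨σ, hσ1, hσ2, hσc⟩ := key τ (hτo ▸ pow_orderOf_eq_one τ)
      have h2' : 2 ∣ Nat.card Cτ :=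
        orderOf_eq_prime hσ2 hσ1 ▸ Subgroup.orderOf_dvd_natCard Cτ (show σ ∈ Cτ from mem_centralizer_singleton_iff.2 hσc)
      exact Nat.Coprime.mul_dvd_of_dvd_of_dvd (by norm_num) h2' h3'
    have hR : Cτ.prod (⊤ : Subgroup SL32) ≤ Φ2.range := fun b hb => by
      obtain ⟨m, hm, hmb⟩ := hlift b (mem_centralizer_singleton_iff.1 hb.1)
      exact ⟨⟨m, hm⟩, hmb⟩
    have hd := card_dvd_of_le hR
    rw [Nat.card_congr (prodEquiv Cτ ⊤).toEquiv, Nat.card_prod, card_top, card_SL32] at hd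
    have h1 : 2 ^ k * (6 * 168) ∣ Nat.card W2 := by
      rw [← Φ2.ker.card_mul_index, index_ker, hΦ2k, hkc]
      exact Nat.mul_dvd_mul_left _ ((Nat.mul_dvd_mul_right h6 168).trans hd)
    have h2 : Nat.card W2 ∣ 6 * 443520 := by
      rw [← κ.ker.card_mul_index, index_ker]
      refine Nat.mul_dvd_mul hκker ?_
      rw [← CfsgLib.Golay.Cert.card_m22]
      exact card_subgroup_dvd_card _
    have h3 : 2 ^ k * (6 * 168) ∣ 6 * 443520 := h1.trans h2
    have hk4 : k ≤ 4 := by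
      by_contra hlt
      push Not at hlt
      have : 2 ^ 5 * (6 * 168) ∣ 6 * 443520 :=
        (Nat.mul_dvd_mul_right (pow_dvd_pow 2 hlt) _).trans h3
      norm_num at this
    rw [hkc]
    unfold Nat.ModEq at hmod
    interval_cases k <;> simp at hmod hge ⊢
  have hCZeq : C = D.Z := (eq_of_le_of_card_ge hZC (by rw [hZ8, D.Z_card])).symm
  -- the subgroup of order 1344
  set W1 : Subgroup ↥W2 := ((MonoidHom.fst S5 SL32).comp Φ2).ker with hW1
  let ψ : ↥W1 →* SL32 := ((MonoidHom.snd S5 SL32).comp Φ2).comp W1.subtype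
  have hψs : Function.Surjective ψ := fun a => by
    obtain ⟨m, hm, hma⟩ := hlift (1, a) (by simp)
    exact ⟨⟨⟨m, hm⟩, congrArg Prod.fst hma⟩, congrArg Prod.snd hma⟩
  set V := ψ.ker with hV
  have hVZ : ∀ m : ↥W1, m ∈ V ↔ (((m : ↥W2) : ↥D.Mn) : G) ∈ D.Z := by
    intro m
    constructor
    · intro hm
      have h1 : ((m : ↥W2) : ↥D.Mn) ∈ Φ.ker := Prod.ext m.2 hm
      rw [hk] at h1
      rw [← hCZeq]
      refine mem_inf.2 ⟨h1, ?_⟩
      rw [zpowers_eq_closure, centralizer_closure, mem_centralizer_singleton_iff]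
      exact congrArg Subtype.val (mem_centralizer_singleton_iff.1 m.1.2)
    · intro hm
      have h1 : ((m : ↥W2) : ↥D.Mn) ∈ Φ.ker := by rw [hk]; exact D.Z_le_L hJ hm
      exact congrArg Prod.snd (MonoidHom.mem_ker.1 h1)
  have hV8 : Nat.card V = 8 := by
    rw [← D.Z_card]
    refine Nat.card_congr (Equiv.ofBijective (fun m : ↥V => (⟨_, (hVZ m.1).1 m.2⟩ : ↥D.Z)) ⟨?_, ?_⟩)
    · intro a b h
      have h' := congrArg (fun y : ↥D.Z => (y : G)) h
      exact Subtype.ext (Subtype.ext (Subtype.ext (Subtype.ext h')))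
    · rintro ⟨a, ha⟩
      obtain ⟨h, hW⟩ := hCW a (hCZeq.symm ▸ ha)
      have h1 : Φ (⟨a, h⟩ : ↥D.Mn) = 1 := by rw [← MonoidHom.mem_ker, hk]; exact D.Z_le_L hJ ha
      exact ⟨⟨⟨⟨⟨a, h⟩, hW⟩, congrArg Prod.fst h1⟩, congrArg Prod.snd h1⟩, rfl⟩
  have hW1c : Nat.card ↥W1 = 1344 := by
    rw [← ψ.ker.card_mul_index, index_ker, ← hV, hV8, MonoidHom.range_eq_top.2 hψs, card_top, card_SL32]
  -- `W1` induces all of SL(3,2) on `Z`
  have hJW : ∀ j ∈ D.J, ∃ w : ↥W1, ∀ a ∈ D.Z,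
      (((w : ↥W2) : ↥D.Mn) : G) * a * (((w : ↥W2) : ↥D.Mn) : G)⁻¹ = j * a * j⁻¹ := by
    intro j hj
    obtain ⟨w, hw⟩ := hψs (Φ ⟨j, D.J_le_normalizer hj⟩).2
    refine ⟨w, fun a ha => ?_⟩
    set wG : G := (((w : ↥W2) : ↥D.Mn) : G)
    have hc : j⁻¹ * wG ∈ D.CZ := by
      refine (hCZ ((⟨j, D.J_le_normalizer hj⟩ : ↥D.Mn)⁻¹ * ((w : ↥W2) : ↥D.Mn))).2 ?_
      rw [map_mul, map_inv, Prod.snd_mul, Prod.snd_inv]
      exact inv_mul_eq_one.2 hw.symm
    calc wG * a * wG⁻¹ = j * ((j⁻¹ * wG) * a * (j⁻¹ * wG)⁻¹) * j⁻¹ := by group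
      _ = j * a * j⁻¹ := by
          rw [(mem_centralizer_iff.1 hc a ha).symm, mul_inv_cancel_right]
  -- the embedding in M22
  let ι : ↥W1 →* M := κ.comp W1.subtype
  have hι : Function.Injective ι := by
    rw [← MonoidHom.ker_eq_bot_iff, eq_bot_iff_forall]
    intro m hm
    obtain ⟨u, hu, i, hmu⟩ := hκ (m : ↥W2) hm
    have hu2 : u * u = 1 := by
      rcases (CfsgLib.Extra2.mem_zpowers_iff (z_sq hJ)).1 hu with rfl | rfl
      · exact one_mul 1
      · exact z_sq hJ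
    have huM : g⁻¹ * u * g ∈ D.Mn := by
      rw [show g⁻¹ * u * g = (((m : ↥W2) : ↥D.Mn) : G) * (x0 ^ i)⁻¹ by rw [hmu]; group]
      exact mul_mem ((m : ↥W2) : ↥D.Mn).2 (inv_mem (zpow_mem x.2 i))
    let u' : ↥D.Mn := ⟨g⁻¹ * u * g, huM⟩
    have hmu' : ((m : ↥W2) : ↥D.Mn) = u' * x ^ i := Subtype.ext (by simpa using hmu)
    have hu'2 : (Φ u').1 * (Φ u').1 = 1 := by
      rw [← Prod.fst_mul, ← map_mul, show u' * u' = 1 from Subtype.ext (by
        show g⁻¹ * u * g * (g⁻¹ * u * g) = 1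
        rw [show g⁻¹ * u * g * (g⁻¹ * u * g) = g⁻¹ * (u * u) * g by group, hu2]; group), map_one]
      rfl
    have hm1 : (Φ ((m : ↥W2) : ↥D.Mn)).1 = 1 := m.2
    rw [hmu', map_mul, map_zpow, Prod.fst_mul, Prod.pow_fst, ← hτ] at hm1
    have hτi : τ ^ i = 1 := by
      have e : (Φ u').1 = (τ ^ i)⁻¹ := eq_inv_of_mul_eq_one_left hm1
      rw [e, ← mul_inv_rev, inv_eq_one, ← zpow_add, ← two_mul] at hu'2
      have hd : (3 : ℤ) ∣ 2 * i := by
        have := orderOf_dvd_iff_zpow_eq_one.2 hu'2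
        rwa [hτo] at this
      refine orderOf_dvd_iff_zpow_eq_one.1 ?_
      rw [hτo]
      omega
    have hxi : x0 ^ i = 1 := by
      have hd := orderOf_dvd_iff_zpow_eq_one.2 hτi
      rw [hτo, ← hx0] at hd
      exact orderOf_dvd_iff_zpow_eq_one.1 hd
    rw [hxi, mul_one] at hmu
    by_contra hm1'
    -- `m` is central in `W1`
    have hcen : ∀ w : ↥W1, w * m = m * w := by
      intro w
      apply Subtype.ext; apply Subtype.ext; apply Subtype.ext
      show (((w : ↥W2) : ↥D.Mn) : G) * (((m : ↥W2) : ↥D.Mn) : G) = _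
      have hw : g * (((w : ↥W2) : ↥D.Mn) : G) * g⁻¹ ∈ cC z P := hW2C _ w.1.2
      have huc : Commute (g * (((w : ↥W2) : ↥D.Mn) : G) * g⁻¹) u := by
        obtain ⟨n, rfl⟩ := hu
        exact (show Commute _ z from mem_cH.1 hw.1).zpow_right n
      show _ = (((m : ↥W2) : ↥D.Mn) : G) * (((w : ↥W2) : ↥D.Mn) : G)
      rw [hmu]
      calc (((w : ↥W2) : ↥D.Mn) : G) * (g⁻¹ * u * g) = g⁻¹ * ((g * (((w : ↥W2) : ↥D.Mn) : G) * g⁻¹) * u) * g := by group
        _ = _ := by rw [huc.eq]; group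
    have hψm : ψ m ∈ Subgroup.center SL32 := mem_center_iff.2 fun a => by
      obtain ⟨w, rfl⟩ := hψs a
      rw [← map_mul, ← map_mul, hcen]
    rw [center_SL32, mem_bot] at hψm
    have hmZ := (hVZ m).1 hψm
    have hm1G : (((m : ↥W2) : ↥D.Mn) : G) ≠ 1 := fun h => hm1' (Subtype.ext (Subtype.ext (Subtype.ext h)))
    obtain ⟨j0, hj0, hy⟩ := D.transitive hJ hmZ hm1G
    obtain ⟨j1, hj1, hne⟩ := D.exists_moving hJ
    refine hne ?_
    set y := (((m : ↥W2) : ↥D.Mn) : G)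
    have hall : ∀ j ∈ D.J, j * y * j⁻¹ = y := fun j hj => by
      obtain ⟨w, hw⟩ := hJW j hj
      have e := congrArg (fun t : ↥W1 => (((t : ↥W2) : ↥D.Mn) : G)) (hcen w)
      simp only [Subgroup.coe_mul] at e
      rw [← hw y hmZ, e, mul_inv_cancel_right]
    have e1 := hall (j0 * j1 * j0⁻¹) (mul_mem (mul_mem hj0 hj1) (inv_mem hj0))
    rw [← hy] at e1
    calc j1 * z * j1⁻¹ = j0⁻¹ * (j0 * j1 * j0⁻¹ * (j0 * z * j0⁻¹) * (j0 * j1 * j0⁻¹)⁻¹) * j0 := by group
      _ = z := by rw [e1]; group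
  -- the 22 points
  let Ω := {r : Cfsg.GolayPt // r ≠ none ∧ r ≠ some 0}
  have hmove : ∀ (c : M) (r : Cfsg.GolayPt), r ≠ none ∧ r ≠ some 0 → (c : Equiv.Perm Cfsg.GolayPt) r ≠ none ∧
      (c : Equiv.Perm Cfsg.GolayPt) r ≠ some 0 := fun c r hr =>
    ⟨fun h => hr.1 ((c : Equiv.Perm Cfsg.GolayPt).injective (h.trans (CfsgLib.Golay.Cert.mem_m22.mp c.2).2.1.symm)),
      fun h => hr.2 ((c : Equiv.Perm Cfsg.GolayPt).injective (h.trans (CfsgLib.Golay.Cert.mem_m22.mp c.2).2.2.symm))⟩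
  letI : MulAction ↥W1 Ω :=
    { smul := fun w r => ⟨_, hmove (ι w) r.1 r.2⟩
      one_smul := fun r => Subtype.ext (by show ((ι 1 : M) : Equiv.Perm Cfsg.GolayPt) r.1 = r.1; rw [map_one]; rfl)
      mul_smul := fun a b r => Subtype.ext (by
        show ((ι (a * b) : M) : Equiv.Perm Cfsg.GolayPt) r.1 = _
        rw [map_mul]; rfl) }
  have h24 : Fintype.card Cfsg.GolayPt = 24 := by decide
  have hΩ : Nat.card Ω = 22 := by
    rw [Nat.card_eq_fintype_card, Fintype.card_subtype]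
    decide +kernel
  have hfix : ∀ v ∈ V, v ≠ 1 → Nat.card (MulAction.fixedBy Ω v) ≤ 6 := by
    intro v hv hv1
    have hv2 : orderOf (ι v) = 2 := by
      refine orderOf_eq_prime ?_ fun h => hv1 (hι (h.trans (map_one ι).symm))
      rw [← map_pow, ← map_one ι]
      refine congrArg ι (Subtype.ext (Subtype.ext (Subtype.ext ?_)))
      simp only [SubmonoidClass.coe_pow, OneMemClass.coe_one]
      rw [pow_two]
      exact D.Z_sq _ ((hVZ v).1 hv)
    have h8 := CfsgLib.J4Eleven.card_fixSet_M22 hv2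
    set fs := CfsgLib.J4Eleven.fixSet (ι v : M).1
    have hsub : ({none, some 0} : Finset Cfsg.GolayPt) ⊆ fs := by
      intro r hr
      rw [CfsgLib.J4Eleven.mem_fixSet]
      rcases Finset.mem_insert.1 hr with rfl | hr
      · exact (CfsgLib.Golay.Cert.mem_m22.mp (ι v).2).2.1
      · rw [Finset.mem_singleton.1 hr]; exact (CfsgLib.Golay.Cert.mem_m22.mp (ι v).2).2.2
    have hc : (fs \ {none, some 0}).card = 6 := by
      rw [Finset.card_sdiff_of_subset hsub, h8]; rfl
    rw [← hc, ← Nat.card_eq_finsetCard]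
    refine Nat.card_le_card_of_injective (fun r => (⟨r.1.1, Finset.mem_sdiff.2 ⟨?_, ?_⟩⟩ : ↥(fs \ {none, some 0}))) ?_
    · rw [CfsgLib.J4Eleven.mem_fixSet]
      exact congrArg (fun y : Ω => y.1) r.2
    · intro h
      rcases Finset.mem_insert.1 h with h | h
      · exact r.1.2.1 h
      · exact r.1.2.2 (Finset.mem_singleton.1 h)
    · intro a b h
      have h' := congrArg (fun y : ↥(fs \ {none, some 0}) => y.1) h
      exact Subtype.ext (Subtype.ext h')
  obtain ⟨⟨s, hsJ⟩, hso⟩ := exists_prime_orderOf_dvd_card' (G := ↥D.J) 7 (by rw [D.card_J]; norm_num)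
  rw [orderOf_mk] at hso
  obtain ⟨w0, hw0⟩ := exists_prime_orderOf_dvd_card' (G := ↥W1) 7 (by rw [hW1c]; norm_num)
  have hfpf : ∀ v ∈ V, w0 * v = v * w0 → v = 1 := by
    intro v hv hc
    obtain ⟨j, hj⟩ := hJs (ψ w0)
    have hj' : (Φ (inclusion D.J_le_normalizer j)).2 = ψ w0 := hj
    -- make the lift an element of order seven
    have hjn : orderOf ((j : G) ^ 8) = 7 := by
      have hd : orderOf (j : G) ∣ 8 * 7 := by
        refine orderOf_dvd_of_pow_eq_one ?_
        rw [mul_comm, pow_mul]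
        have h7 : (j : G) ^ 7 ∈ D.J ⊓ D.CZ := by
          refine mem_inf.2 ⟨pow_mem j.2 7, (hCZ ((inclusion D.J_le_normalizer j) ^ 7)).2 ?_⟩
          rw [map_pow, Prod.pow_snd, hj', ← map_pow, ← hw0, pow_orderOf_eq_one, map_one]
        rw [D.J_inter_CZ hJ] at h7
        have := pow_card_eq_one' (G := ↥D.Z) (x := ⟨_, h7⟩)
        rw [D.Z_card] at this
        exact congrArg Subtype.val this
      refine orderOf_eq_prime (by rw [← pow_mul]; exact orderOf_dvd_iff_pow_eq_one.1 hd) fun h => ?_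
      have h8 : (inclusion D.J_le_normalizer j) ^ 8 = 1 := Subtype.ext (by simpa using h)
      have h9 : ψ w0 ^ 8 = 1 := by rw [← hj', ← Prod.pow_snd, ← map_pow, h8, map_one]; rfl
      have h10 : ψ w0 = 1 := eq_one_of_coprime h9 (n := 7) (by rw [← map_pow, ← hw0, pow_orderOf_eq_one, map_one]) (by decide)
      have h11 : w0 ∈ V := h10
      have h12 := orderOf_dvd_natCard (⟨w0, h11⟩ : ↥V)
      rw [orderOf_mk, hw0, hV8] at h12
      norm_num at h12
    set y := (((v : ↥W2) : ↥D.Mn) : G)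
    set wG := (((w0 : ↥W2) : ↥D.Mn) : G)
    have hyZ : y ∈ D.Z := (hVZ v).1 hv
    have hcG : wG * y = y * wG := congrArg (fun t : ↥W1 => (((t : ↥W2) : ↥D.Mn) : G)) hc
    have hd : (j : G)⁻¹ * wG ∈ D.CZ := by
      refine (hCZ ((inclusion D.J_le_normalizer j)⁻¹ * ((w0 : ↥W2) : ↥D.Mn))).2 ?_
      rw [map_mul, map_inv, Prod.snd_mul, Prod.snd_inv, hj']
      exact inv_mul_eq_one.2 rfl
    have hjy : Commute (j : G) y := by
      have h1 : Commute ((j : G)⁻¹ * wG) y := (mem_centralizer_iff.1 hd y hyZ).symm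
      have h2 : Commute (j : G) y := by
        rw [show (j : G) = wG * ((j : G)⁻¹ * wG)⁻¹ by group]
        exact (show Commute wG y from hcG).mul_left h1.inv_left
      exact h2
    have := D.not_commute_seven hJ (pow_mem j.2 8) hjn hyZ (hjy.pow_left 8).eq
    exact Subtype.ext (Subtype.ext (Subtype.ext this))
  have h84 : ∀ H : Subgroup ↥W1, H ⊓ V = ⊥ → Nat.card H ≠ 84 := by
    intro H hH h84
    haveI := simple_SL32
    have hHc : Nat.card (H.map ψ) = 84 := by
      have := card_map_mul_card_inf_ker ψ H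
      rw [← hV, hH, card_bot, mul_one, h84] at this
      exact this
    have hidx : (H.map ψ).index = 2 := by
      have := (H.map ψ).card_mul_index
      rw [hHc, card_SL32] at this
      omega
    rcases (normal_of_index_eq_two hidx).eq_bot_or_eq_top with e | e
    · rw [e, card_bot] at hHc; norm_num at hHc
    · rw [e, card_top, card_SL32] at hHc; norm_num at hHc
  obtain ⟨Y, hY, hYV⟩ := exists_complement hΩ V hV8 hW1c hfix hw0 hfpf h84
  let f : ↥Y →* G := (D.Mn.subtype.comp (W2.subtype.comp W1.subtype)).comp Y.subtype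
  refine ⟨f.range, ?_, ?_⟩
  · rw [D.normalizer_L hJ]
    rintro _ ⟨y, rfl⟩
    exact (((y : ↥W1) : ↥W2) : ↥D.Mn).2
  have hf : Function.Injective f := fun a b h => Subtype.ext (Subtype.ext (Subtype.ext (Subtype.ext h)))
  have hψY : Function.Bijective (ψ.comp Y.subtype) := by
    refine (Nat.bijective_iff_injective_and_card _).2 ⟨?_, by rw [hY, card_SL32]⟩
    rw [← MonoidHom.ker_eq_bot_iff, eq_bot_iff_forall]
    intro a ha
    have : (a : ↥W1) ∈ Y ⊓ V := ⟨a.2, ha⟩
    rw [hYV, mem_bot] at this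
    exact Subtype.ext this
  exact ⟨(MonoidHom.ofInjective hf).symm.trans (MulEquiv.ofBijective _ hψY)⟩

end CfsgLib.J4Pentad
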