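/-
Janko-four type: the pentad 2-local subgroup, from the local structure at the primes 3, 5 and 7.
The statements of the rows on the centraliser of `P`, on the class of elements of order three and on the 5- and
7-local structure are hypotheses here.
-/
import Cfsg.Agent.J4Local.Pentad.L32

set_option autoImplicit false
set_option linter.style.haveILetI false
set_option linter.unusedSectionVars false

namespace CfsgLib.J4Pentad

open Subgroup CfsgLib.J4Local CfsgLib.J4Local.M22Elem CfsgLib.J4Local.FixMod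

variable {G : Type*} [Group G] [Finite G] {z : G} {P : Subgroup G}

theorem exists_dat (hJ : Cfsg.IsOfJankoFourTypeWith z P)
    (h72 : ∀ Q : Subgroup G, Nat.card ↥Q = 5 → Q ≤ centralizer ({z} : Set G) →
      ¬ (25 ∣ Nat.card G) ∧
      (∃ J : Subgroup G, Cfsg.IsInternalDirectProduct Q J (centralizer (Q : Set G)) ∧
        ∃ (E : Subgroup ↥J) (_ : E.Normal), Cfsg.IsElementaryAbelian 2 E ∧ Nat.card ↥E = 8 ∧
          Nonempty (↥J ⧸ E ≃* Matrix.SpecialLinearGroup (Fin 3) (ZMod 2)) ∧ ∀ K : Subgroup ↥J, ¬ E.IsComplement' K) ∧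
      (∃ R : Subgroup G, Q ≤ R ∧ R ≤ normalizer (Q : Set G) ∧ Nat.card ↥R = 20 ∧ R ⊓ centralizer (Q : Set G) = Q) ∧
      Nat.card ↥(normalizer (Q : Set G)) = 2 ^ 8 * 3 * 5 * 7) :
    ∃ _D : Dat z P, ¬ (25 ∣ Nat.card G) := by
  haveI : Fact (Nat.Prime 5) := ⟨by norm_num⟩
  obtain ⟨⟨f, hf⟩, hfo⟩ := exists_prime_orderOf_dvd_card' (G := ↥(cC z P)) 5 (by rw [card_C hJ]; norm_num)
  rw [orderOf_mk] at hfo
  obtain ⟨h25, ⟨J, hJdp, E, hEn, hEel, hE8, ⟨e⟩, hnc⟩, -, hN⟩ :=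
    h72 (zpowers f) (by rw [Nat.card_zpowers, hfo]) (zpowers_le.2 hf.1)
  have hcz : centralizer ((zpowers f : Subgroup G) : Set G) = centralizer ({f} : Set G) := by
    rw [zpowers_eq_closure, centralizer_closure]
  rw [hcz] at hJdp
  haveI := hEn
  have hmem : ∀ a, a ∈ E.map J.subtype → ∃ h : a ∈ J, (⟨a, h⟩ : ↥J) ∈ E := by
    rintro _ ⟨a, ha, rfl⟩
    exact ⟨a.2, ha⟩
  refine ⟨
    { f := f
      f_mem := hf
      f_ord := hfo
      J := J
      Z := E.map J.subtype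
      hdp := hJdp
      Z_le := map_subtype_le E
      Z_comm := fun a ha b hb => ?_
      Z_sq := fun a ha => ?_
      Z_card := by rw [card_map_of_injective J.subtype_injective, hE8]
      φ := e.toMonoidHom.comp (QuotientGroup.mk' E)
      φ_surj := e.surjective.comp (QuotientGroup.mk'_surjective E)
      φ_ker := ?_
      no_compl := fun K hK hKZ hK168 => ?_
      card_N := hN }, h25⟩
  · obtain ⟨haJ, haE⟩ := hmem a ha
    obtain ⟨hbJ, hbE⟩ := hmem b hb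
    have := hEel.1.is_comm.comm (⟨⟨a, haJ⟩, haE⟩ : ↥E) ⟨⟨b, hbJ⟩, hbE⟩
    exact congrArg (fun t : ↥E => ((t : ↥J) : G)) this
  · obtain ⟨haJ, haE⟩ := hmem a ha
    have := hEel.2 ⟨a, haJ⟩ haE
    rw [← pow_two]
    exact congrArg Subtype.val this
  · ext x
    rw [MonoidHom.mem_ker, MonoidHom.comp_apply, MulEquiv.coe_toMonoidHom, MulEquiv.map_eq_one_iff,
      QuotientGroup.mk'_apply, QuotientGroup.eq_one_iff, mem_subgroupOf]
    exact ⟨fun h => ⟨x, h, rfl⟩, fun ⟨y, hy, hyx⟩ => (Subtype.ext hyx : y = x) ▸ hy⟩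
  · refine hnc (K.subgroupOf J) (isComplement'_of_card_mul_and_disjoint ?_ ?_)
    · rw [hE8, Nat.card_congr (subgroupOfEquivOfLe hK).toEquiv, hK168,
        card_eq_card_quotient_mul_card_subgroup E, Nat.card_congr e.toEquiv, card_SL32, hE8]
    · rw [disjoint_iff, eq_bot_iff_forall]
      intro x hx
      have : (x : G) ∈ K ⊓ E.map J.subtype :=
        mem_inf.2 ⟨mem_subgroupOf.1 (mem_inf.1 hx).2, ⟨x, (mem_inf.1 hx).1, rfl⟩⟩
      rw [hKZ, mem_bot] at this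
      exact Subtype.ext this

/-- The pentad 2-local subgroup. -/
theorem main (hJ : Cfsg.IsOfJankoFourTypeWith z P)
    (hNP : normalizer (P : Set G) ≤ centralizer ({z} : Set G))
    (hone : ∀ x y : G, orderOf x = 3 → orderOf y = 3 → IsConj x y)
    (h72 : ∀ Q : Subgroup G, Nat.card ↥Q = 5 → Q ≤ centralizer ({z} : Set G) →
      ¬ (25 ∣ Nat.card G) ∧
      (∃ J : Subgroup G, Cfsg.IsInternalDirectProduct Q J (centralizer (Q : Set G)) ∧
        ∃ (E : Subgroup ↥J) (_ : E.Normal), Cfsg.IsElementaryAbelian 2 E ∧ Nat.card ↥E = 8 ∧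
          Nonempty (↥J ⧸ E ≃* Matrix.SpecialLinearGroup (Fin 3) (ZMod 2)) ∧ ∀ K : Subgroup ↥J, ¬ E.IsComplement' K) ∧
      (∃ R : Subgroup G, Q ≤ R ∧ R ≤ normalizer (Q : Set G) ∧ Nat.card ↥R = 20 ∧ R ⊓ centralizer (Q : Set G) = Q) ∧
      Nat.card ↥(normalizer (Q : Set G)) = 2 ^ 8 * 3 * 5 * 7)
    (h73 : ∀ S : Subgroup G, Nat.card ↥S = 7 → S ≤ centralizer ({z} : Set G) →
      ¬ (49 ∣ Nat.card G) ∧
      (∃ I : Subgroup G, Cfsg.IsInternalDirectProduct S I (centralizer (S : Set G)) ∧ Nonempty (↥I ≃* Equiv.Perm (Fin 5))) ∧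
      Nat.card ↥(normalizer (S : Set G)) = 3 * Nat.card ↥(centralizer (S : Set G)) ∧
      Nat.card ↥(normalizer (S : Set G)) = 2 ^ 3 * 3 ^ 2 * 5 * 7) :
    ∃ L : Subgroup G, Cfsg.IsSpecial 2 ↥L ∧ Nat.card ↥L = 2 ^ 15 ∧ Nat.card ↥(Subgroup.center ↥L) = 8 ∧
    Nonempty (↥(normalizer (L : Set G)) ⧸ L.subgroupOf (normalizer (L : Set G)) ≃* Equiv.Perm (Fin 5) × Matrix.SpecialLinearGroup (Fin 3) (ZMod 2)) ∧
    (∀ K : Subgroup ↥(normalizer (L : Set G)), ¬ (L.subgroupOf (normalizer (L : Set G))).IsComplement' K) ∧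
    (∃ K₁ : Subgroup G, K₁ ≤ normalizer (L : Set G) ∧ Nonempty (↥K₁ ≃* Equiv.Perm (Fin 5))) ∧
    (∃ K₂ : Subgroup G, K₂ ≤ normalizer (L : Set G) ∧ Nonempty (↥K₂ ≃* Matrix.SpecialLinearGroup (Fin 3) (ZMod 2))) ∧
    (∃ Q : Sylow 5 G, normalizer ((Q : Subgroup G) : Set G) ≤ normalizer (L : Set G)) ∧
    (∃ S : Sylow 7 G, normalizer ((S : Subgroup G) : Set G) ≤ normalizer (L : Set G)) := by
  obtain ⟨D, h25⟩ := exists_dat hJ h72
  obtain ⟨hK1, hS⟩ := D.sylow_seven hJ h73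
  exact ⟨D.L hJ, D.special_L hJ, D.card_L hJ, D.card_center_L hJ, D.quot_iso hJ, D.no_complement hJ, hK1,
    D.exists_L32 hJ hone hNP, D.sylow_five hJ h25, hS⟩

end CfsgLib.J4Pentad
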